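import Cfsg.Agent.SuzukiLocal.Basic
import Cfsg.Agent.Suzuki.Tori

/-!
# Point stabilizers and 2-elements of `Cfsg.Sz`
-/

set_option autoImplicit false
set_option linter.unusedSectionVars false

namespace CfsgLib.SuzukiLocal

open CfsgLib.Suzuki MulAction

variable {F : Type*} [Field F] [Fintype F] {m : ℕ}

theorem conj_mem_stabilizer {G X : Type*} [Group G] [MulAction G X] {k g : G} {p : X}
    (h : g • p = p) : (k * g * k⁻¹) • (k • p) = k • p := by
  rw [mul_smul, mul_smul, inv_smul_smul, h]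

/-- The torus component on the stabilizer of `∞`. -/
theorem exists_torusHom (hS : SzField F m) :
    ∃ φ : ↥(stabilizer (Cfsg.Sz F m) (ovoidInf (F := F) (m := m))) →* Fˣ,
      ∀ g, φ g = 1 ↔ (g : Cfsg.Sz F m) ∈ uniSub hS := by
  have hdec : ∀ g : ↥(stabilizer (Cfsg.Sz F m) (ovoidInf (F := F) (m := m))),
      ∃ μ : Fˣ, ∃ a b : F, (g : Cfsg.Sz F m) = uniEl hS a b * torSz hS μ := fun g => by
    obtain ⟨a, b, μ, e⟩ := pointStab_eq hS (congrArg Subtype.val (mem_stabilizer_iff.1 g.2))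
    exact ⟨μ, a, b, e⟩
  choose φ a b hφ using hdec
  have huniq : ∀ {g : Cfsg.Sz F m} {c d c' d' : F} {μ μ' : Fˣ},
      g = uniEl hS c d * torSz hS μ → g = uniEl hS c' d' * torSz hS μ' → μ = μ' := by
    intro g c d c' d' μ μ' h h'
    exact (uni_mul_tor_injective hS (congrArg Subtype.val (h.symm.trans h'))).2.2
  refine ⟨MonoidHom.mk' φ fun g h => ?_, fun g => ⟨fun e => ?_, ?_⟩⟩
  · refine huniq (hφ (g * h)) ?_ (c' := a g + φ g * a h) (d' := ?_)
    · exact b g + φ g * θ m (φ g : F) * b h + θ m (a g) * (φ g * a h)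
    rw [Subgroup.coe_mul, hφ g, hφ h, map_mul,
      show uniEl hS (a g) (b g) * torSz hS (φ g) * (uniEl hS (a h) (b h) * torSz hS (φ h)) =
        uniEl hS (a g) (b g) * (torSz hS (φ g) * uniEl hS (a h) (b h) * (torSz hS (φ g))⁻¹) *
          (torSz hS (φ g) * torSz hS (φ h)) by group, torSz_conj_uniEl, uniEl_mul]
  · rw [hφ g, show φ g = 1 from e, map_one, mul_one]
    exact uniEl_mem hS _ _
  · rintro ⟨c, d, e⟩
    exact huniq (hφ g) (c' := c) (d' := d) (by rw [map_one, mul_one, e])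

theorem pow_four_of_mem_uniSub (hS : SzField F m) {g : Cfsg.Sz F m} (hg : g ∈ uniSub hS) :
    g ^ 4 = 1 := by
  have := Monoid.pow_exponent_eq_one (⟨g, hg⟩ : uniSub hS)
  rw [exponent_uniSub hS] at this
  exact congrArg Subtype.val this

theorem mem_uniSub_of_pow_four (hS : SzField F m) {g : Cfsg.Sz F m}
    (hg : g • ovoidInf (F := F) (m := m) = ovoidInf) (h4 : g ^ 4 = 1) : g ∈ uniSub hS := by
  obtain ⟨φ, hφ⟩ := exists_torusHom hS
  refine (hφ ⟨g, mem_stabilizer_iff.2 hg⟩).1 (Units.ext (pow_four_eq_one hS ?_))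
  rw [← Units.val_pow_eq_pow_val, ← map_pow, show (⟨g, mem_stabilizer_iff.2 hg⟩ :
    ↥(stabilizer (Cfsg.Sz F m) (ovoidInf (F := F) (m := m)))) ^ 4 = 1 from Subtype.ext h4,
    map_one, Units.val_one]

theorem isSolvable_stabilizer (hS : SzField F m) (p : Cfsg.suzukiOvoid F m) :
    Group.IsSolvable ↥(stabilizer (Cfsg.Sz F m) p) := by
  obtain ⟨φ, hφ⟩ := exists_torusHom hS
  have : Fact (Nat.Prime 2) := ⟨Nat.prime_two⟩
  have h1 : Group.IsSolvable ↥(uniSub hS) := by
    have := (isPGroup_uniSub hS).isNilpotent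
    infer_instance
  have h2 : Group.IsSolvable ↥(stabilizer (Cfsg.Sz F m) (ovoidInf (F := F) (m := m))) := by
    have hle : uniSub hS ≤ stabilizer (Cfsg.Sz F m) (ovoidInf (F := F) (m := m)) := by
      rintro _ ⟨a, b, rfl⟩
      exact Subtype.ext (uniEl_smul_infinity hS a b)
    exact Group.isSolvable_of_ker_le_range (Subgroup.inclusion hle) φ
      (fun g hg => ⟨⟨g, (hφ g).1 hg⟩, rfl⟩)
  obtain ⟨k, hk⟩ := (sz_pretransitive hS).exists_smul_eq p ovoidInf
  let f : ↥(stabilizer (Cfsg.Sz F m) p) →*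
      ↥(stabilizer (Cfsg.Sz F m) (ovoidInf (F := F) (m := m))) :=
    ((MulAut.conj k).toMonoidHom.comp (stabilizer (Cfsg.Sz F m) p).subtype).codRestrict _
      (fun g => mem_stabilizer_iff.2 (hk ▸ conj_mem_stabilizer (mem_stabilizer_iff.1 g.2)))
  refine Group.isSolvable_of_isSolvable_injective (f := f) fun g h e => Subtype.ext ?_
  exact (MulAut.conj k).injective (congrArg Subtype.val e)

theorem comm_pow_four (hS : SzField F m) {p : Cfsg.suzukiOvoid F m} {a b : Cfsg.Sz F m}
    (ha : a • p = p) (hb : b • p = p) : (a * b * a⁻¹ * b⁻¹) ^ 4 = 1 := by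
  obtain ⟨φ, hφ⟩ := exists_torusHom hS
  obtain ⟨k, hk⟩ := (sz_pretransitive hS).exists_smul_eq p ovoidInf
  set a' : ↥(stabilizer (Cfsg.Sz F m) (ovoidInf (F := F) (m := m))) :=
    ⟨k * a * k⁻¹, mem_stabilizer_iff.2 (hk ▸ conj_mem_stabilizer ha)⟩
  set b' : ↥(stabilizer (Cfsg.Sz F m) (ovoidInf (F := F) (m := m))) :=
    ⟨k * b * k⁻¹, mem_stabilizer_iff.2 (hk ▸ conj_mem_stabilizer hb)⟩
  have hmem := (hφ (a' * b' * a'⁻¹ * b'⁻¹)).1 (by
    rw [map_mul, map_mul, map_mul, map_inv, map_inv, mul_right_comm (φ a'), mul_inv_cancel,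
      one_mul, mul_inv_cancel])
  have h4 := pow_four_of_mem_uniSub hS hmem
  have e : ((a' * b' * a'⁻¹ * b'⁻¹ : ↥(stabilizer (Cfsg.Sz F m) (ovoidInf (F := F) (m := m)))) :
      Cfsg.Sz F m) = MulAut.conj k (a * b * a⁻¹ * b⁻¹) := by
    simp only [Subgroup.coe_mul, Subgroup.coe_inv, a', b', MulAut.conj_apply]
    group
  rw [e, ← map_pow] at h4
  exact (MulEquiv.map_eq_one_iff _).1 h4

theorem odd_card_ovoid (hS : SzField F m) : ¬ 2 ∣ Nat.card (Cfsg.suzukiOvoid F m) := by
  rw [card_suzukiOvoid]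
  have h : 2 ∣ Fintype.card F ^ 2 := dvd_pow hS.even_card two_ne_zero
  omega

/-- A nontrivial 2-element fixes exactly one point. -/
theorem existsUnique_fixed (hS : SzField F m) {x : Cfsg.Sz F m} (h1 : x ≠ 1) (h4 : x ^ 4 = 1) :
    ∃! p : Cfsg.suzukiOvoid F m, x • p = p := by
  have : Fact (Nat.Prime 2) := ⟨Nat.prime_two⟩
  have hP : IsPGroup 2 (Subgroup.zpowers x) := by
    obtain ⟨i, -, hi⟩ := (Nat.dvd_prime_pow Nat.prime_two).1
      (show orderOf x ∣ 2 ^ 2 from orderOf_dvd_of_pow_eq_one h4)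
    exact IsPGroup.of_card (n := i) (by rw [Nat.card_zpowers, hi])
  obtain ⟨p, hp⟩ :=
    hP.nonempty_fixed_point_of_prime_not_dvd_card (Cfsg.suzukiOvoid F m) (odd_card_ovoid hS)
  have hxp : x • p = p := hp ⟨x, Subgroup.mem_zpowers x⟩
  refine ⟨p, hxp, fun r hr => ?_⟩
  obtain ⟨k, hk⟩ := (sz_pretransitive hS).exists_smul_eq p ovoidInf
  set y := k * x * k⁻¹
  have hy : y • ovoidInf (F := F) (m := m) = ovoidInf := hk ▸ conj_mem_stabilizer hxp
  have hy4 : y ^ 4 = 1 := by rw [conj_pow, h4, mul_one, mul_inv_cancel]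
  obtain ⟨a, b, e⟩ := mem_uniSub_of_pow_four hS hy hy4
  have hne : uniEl hS a b ≠ 1 := fun h => h1 (by rwa [← e, mul_inv_eq_one, mul_eq_left] at h)
  have hr' : y • (k • r) = k • r := conj_mem_stabilizer hr
  rw [e] at hr'
  refine smul_left_cancel k (Subtype.ext ?_)
  rw [hk]
  exact eq_infinity_of_uniEl_fix hS hne (k • r).2 (congrArg Subtype.val hr')

/-- A nontrivial element of the split torus fixes only `∞` and `0`. -/
theorem fixed_torSz (hS : SzField F m) {μ : Fˣ} (hμ : μ ≠ 1) {p : Cfsg.suzukiOvoid F m}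
    (h : torSz hS μ • p = p) : p = ovoidInf ∨ p = ovoidZero := by
  by_contra hn
  push Not at hn
  have := sz_fix_three hS (tor m μ) (tor_mem hS μ) (infinity_mem (m := m)) zero_mem p.2
    infinity_ne_zero (fun e => hn.2 (Subtype.ext e.symm)) (fun e => hn.1 (Subtype.ext e.symm))
    (tor_smul_infinity μ) (tor_smul_zero hS μ) (congrArg Subtype.val h)
  exact hμ (tor_injective hS (this.trans (map_one _).symm))

theorem ovoidInf_ne_zero : (ovoidInf : Cfsg.suzukiOvoid F m) ≠ ovoidZero :=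
  fun h => infinity_ne_zero (congrArg Subtype.val h)

theorem torSz_smul_base (hS : SzField F m) (μ : Fˣ) :
    torSz hS μ • ovoidInf (F := F) (m := m) = ovoidInf ∧
      torSz hS μ • ovoidZero (F := F) (m := m) = ovoidZero :=
  ⟨Subtype.ext (tor_smul_infinity μ), Subtype.ext (tor_smul_zero hS μ)⟩

theorem card_stabilizer (hS : SzField F m) (p : Cfsg.suzukiOvoid F m) :
    Nat.card ↥(stabilizer (Cfsg.Sz F m) p) = Fintype.card F ^ 2 * (Fintype.card F - 1) := by
  have := sz_pretransitive hS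
  have h := Subgroup.card_mul_index (stabilizer (Cfsg.Sz F m) p)
  rw [index_stabilizer_of_transitive, card_suzukiOvoid, card_sz hS] at h
  refine Nat.eq_of_mul_eq_mul_right (show 0 < Fintype.card F ^ 2 + 1 by positivity) ?_
  linear_combination h

/-- Every involution is conjugate to `uniEl 0 1`; every element of order 4 to `(uniEl 1 0)^±1`. -/
theorem exists_conj_std (hS : SzField F m) {x : Cfsg.Sz F m} :
    (orderOf x = 2 → ∃ g : Cfsg.Sz F m, x = g * uniEl hS 0 1 * g⁻¹) ∧
    (orderOf x = 4 → ∃ g : Cfsg.Sz F m,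
      x = g * uniEl hS 1 0 * g⁻¹ ∨ x = g * (uniEl hS 1 0)⁻¹ * g⁻¹) := by
  have := hS.charP
  have hu : (orderOf x = 2 ∨ orderOf x = 4) → ∃ (g : Cfsg.Sz F m) (a b : F),
      x = g * uniEl hS a b * g⁻¹ := by
    intro h
    have h4 : x ^ 4 = 1 := orderOf_dvd_iff_pow_eq_one.1 (by rcases h with h | h <;> simp [h])
    have h1 : x ≠ 1 := fun e => by rw [e, orderOf_one] at h; omega
    obtain ⟨p, hp, -⟩ := existsUnique_fixed hS h1 h4
    obtain ⟨k, hk⟩ := (sz_pretransitive hS).exists_smul_eq p ovoidInf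
    obtain ⟨a, b, e⟩ := mem_uniSub_of_pow_four hS (hk ▸ conj_mem_stabilizer (k := k) hp)
      (by rw [conj_pow, h4, mul_one, mul_inv_cancel])
    exact ⟨k⁻¹, a, b, by rw [← e]; group⟩
  have hord : ∀ (g : Cfsg.Sz F m) (u : Cfsg.Sz F m), orderOf (g * u * g⁻¹) = orderOf u :=
    fun g u => MulEquiv.orderOf_eq (MulAut.conj g) u
  constructor
  · intro h
    obtain ⟨g, a, b, rfl⟩ := hu (Or.inl h)
    rw [hord] at h
    have hsq : uniEl hS a b * uniEl hS a b = 1 := by
      rw [← pow_two, ← h]; exact pow_orderOf_eq_one _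
    obtain ⟨b', hb'⟩ := mem_uniCenter_of_sq hS (uniEl_mem hS a b) hsq
    have hb0 : b' ≠ 0 := fun e => by
      rw [hb', e, uniEl_zero, orderOf_one] at h; omega
    obtain ⟨μ, hμ⟩ := self_mul_θ_surjective hS b'
    have hμ0 : μ ≠ 0 := fun e => hb0 (by simp only at hμ; rw [← hμ, e, zero_mul])
    refine ⟨g * torSz hS (Units.mk0 μ hμ0), ?_⟩
    have e : torSz hS (Units.mk0 μ hμ0) * uniEl hS 0 1 * (torSz hS (Units.mk0 μ hμ0))⁻¹ =
        uniEl hS 0 b' := by
      rw [torSz_conj_uniEl, uniEl_eq_iff]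
      exact ⟨by simp, by simpa using hμ⟩
    rw [hb', ← e]
    group
  · intro h
    obtain ⟨g, a, b, rfl⟩ := hu (Or.inr h)
    rw [hord] at h
    have ha : a ≠ 0 := by
      intro e
      have : uniEl hS a b ^ 2 = 1 := by
        rw [pow_two, uniEl_sq hS, e, ← uniEl_zero hS, uniEl_eq_iff]
        exact ⟨rfl, by simp⟩
      have := orderOf_dvd_of_pow_eq_one this
      rw [h] at this
      omega
    -- the image of `c ↦ θ c + c` has index two and misses `1`
    let f : F →+ F :=
      { toFun := fun c => θ m c + c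
        map_zero' := by simp
        map_add' := fun c d => by rw [θ_add hS]; ring }
    have hker : Nat.card f.ker ≤ 2 := by
      have hsub : (f.ker : Set F) ⊆ {0, 1} := by
        intro c hc
        rcases θ_fixed hS (CharTwo.add_eq_zero.1 (show θ m c + c = 0 from hc)) with h | h <;>
          simp [h]
      calc Nat.card f.ker = (f.ker : Set F).ncard := (Nat.card_coe_set_eq _)
        _ ≤ ({0, 1} : Set F).ncard := Set.ncard_le_ncard hsub (Set.toFinite _)
        _ ≤ 2 := (Set.ncard_insert_le _ _).trans (by simp)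
    have hidx : f.range.index ≤ 2 := by
      have e1 := AddSubgroup.card_mul_index f.ker
      rw [AddSubgroup.index_ker] at e1
      have e2 := AddSubgroup.card_mul_index f.range
      rw [← e1, mul_comm (Nat.card f.ker)] at e2
      exact (Nat.eq_of_mul_eq_mul_left Nat.card_pos e2).le.trans hker
    have h1r : (1 : F) ∉ f.range := by
      rintro ⟨c, hc⟩
      exact θ_add_self_ne_one hS c (CharTwo.add_eq_zero.2 hc)
    have hidx2 : f.range.index = 2 := by
      have := f.range.index_ne_zero_of_finite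
      have : f.range.index ≠ 1 := fun e => h1r (by rw [AddSubgroup.index_eq_one.1 e]; trivial)
      omega
    -- scale `a` to `1`, then shift the second coordinate
    have key : ∀ c b : F, uniEl hS c 0 * uniEl hS 1 b * (uniEl hS c 0)⁻¹ =
        uniEl hS 1 (b + f c) := by
      intro c b
      rw [mul_inv_eq_iff_eq_mul, uniEl_mul, uniEl_mul, uniEl_eq_iff]
      refine ⟨by ring, ?_⟩
      show _ = b + (θ m c + c) + 0 + θ m 1 * c
      rw [θ_one]
      linear_combination (-c) * hS.two_eq_zero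
    set μ := Units.mk0 a ha
    have e : torSz hS μ * uniEl hS 1 (b / (a * θ m a)) * (torSz hS μ)⁻¹ = uniEl hS a b := by
      rw [torSz_conj_uniEl, uniEl_eq_iff]
      refine ⟨by simp [μ], ?_⟩
      simp only [μ, Units.val_mk0]
      rw [mul_div_cancel₀ _ (mul_ne_zero ha (fun h => ha (θ_eq_zero.1 h)))]
    set b₁ := b / (a * θ m a)
    by_cases hb : b₁ ∈ f.range
    · obtain ⟨c, hc⟩ := hb
      refine ⟨g * torSz hS μ * uniEl hS c 0, Or.inl ?_⟩
      have := key c 0
      rw [zero_add, hc] at this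
      rw [← e, ← this]
      group
    · obtain ⟨c, hc⟩ : b₁ + 1 ∈ f.range :=
        (AddSubgroup.add_mem_iff_of_index_two hidx2).2 (iff_of_false hb h1r)
      refine ⟨g * torSz hS μ * uniEl hS c 0, Or.inr ?_⟩
      have hinv : (uniEl hS (1 : F) 0)⁻¹ = uniEl hS 1 1 := by
        rw [inv_eq_iff_mul_eq_one, uniEl_mul, ← uniEl_zero hS, uniEl_eq_iff]
        refine ⟨CharTwo.add_self_eq_zero 1, ?_⟩
        rw [θ_one]
        linear_combination hS.two_eq_zero
      have := key c 1
      rw [hc, show 1 + (b₁ + 1) = b₁ by linear_combination hS.two_eq_zero] at this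
      rw [← e, ← this, hinv]
      group

/-- The numbers of elements of order 2 and 4. -/
theorem card_order_two_four (hS : SzField F m) :
    Nat.card {x : Cfsg.Sz F m // orderOf x = 2} =
        (Fintype.card F ^ 2 + 1) * (Fintype.card F - 1) ∧
    Nat.card {x : Cfsg.Sz F m // orderOf x = 4} =
        (Fintype.card F ^ 2 + 1) * (Fintype.card F * (Fintype.card F - 1)) := by
  classical
  have := hS.charP
  have := sz_pretransitive hS
  have main : ∀ j : ℕ, (j = 2 ∨ j = 4) → ∀ n : ℕ,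
      Nat.card {p : F × F // orderOf (uniEl hS p.1 p.2) = j} = n →
      Nat.card {x : Cfsg.Sz F m // orderOf x = j} = (Fintype.card F ^ 2 + 1) * n := by
    intro j hj n hn
    have hpt : ∀ p : Cfsg.suzukiOvoid F m,
        Nat.card {x : Cfsg.Sz F m // x • p = p ∧ orderOf x = j} = n := by
      intro p
      obtain ⟨k, hk⟩ := (sz_pretransitive hS).exists_smul_eq ovoidInf p
      rw [← hn]
      symm
      refine Nat.card_eq_of_bijective (fun u => ⟨k * uniEl hS u.1.1 u.1.2 * k⁻¹,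
        hk ▸ conj_mem_stabilizer (Subtype.ext (uniEl_smul_infinity hS _ _)),
        (MulEquiv.orderOf_eq (MulAut.conj k) _).trans u.2⟩) ⟨fun u v h => ?_, ?_⟩
      · have h' : k * uniEl hS u.1.1 u.1.2 * k⁻¹ = k * uniEl hS v.1.1 v.1.2 * k⁻¹ :=
          congrArg Subtype.val h
        obtain ⟨h1, h2⟩ := (uniEl_eq_iff hS).1 (mul_left_cancel (mul_right_cancel h'))
        exact Subtype.ext (Prod.ext h1 h2)
      · rintro ⟨x, hx, hxj⟩
        have h4 : x ^ 4 = 1 := orderOf_dvd_iff_pow_eq_one.1 (by rcases hj with rfl | rfl <;> simp [hxj])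
        have hfix : (k⁻¹ * x * k⁻¹⁻¹) • ovoidInf (F := F) (m := m) = ovoidInf := by
          have := conj_mem_stabilizer (k := k⁻¹) hx
          rwa [← hk, inv_smul_smul] at this
        obtain ⟨a, b, e⟩ := mem_uniSub_of_pow_four hS hfix
          (by rw [conj_pow, h4, mul_one, mul_inv_cancel])
        refine ⟨⟨(a, b), ?_⟩, Subtype.ext ?_⟩
        · show orderOf (uniEl hS a b) = j
          rw [← e, ← hxj]
          exact MulEquiv.orderOf_eq (MulAut.conj k⁻¹) x
        · show k * uniEl hS a b * k⁻¹ = x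
          rw [← e]; group
    have h1 : ∀ x : {x : Cfsg.Sz F m // orderOf x = j}, (x : Cfsg.Sz F m) ≠ 1 ∧
        (x : Cfsg.Sz F m) ^ 4 = 1 := fun x => by
      refine ⟨fun e => ?_, orderOf_dvd_iff_pow_eq_one.1 ?_⟩
      · have := x.2
        rw [e, orderOf_one] at this
        omega
      · rw [x.2]; rcases hj with rfl | rfl <;> norm_num
    have := Fintype.ofFinite (Cfsg.suzukiOvoid F m)
    have e : {x : Cfsg.Sz F m // orderOf x = j} ≃
        Σ p : Cfsg.suzukiOvoid F m, {x : Cfsg.Sz F m // x • p = p ∧ orderOf x = j} :=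
      { toFun := fun x => ⟨(existsUnique_fixed hS (h1 x).1 (h1 x).2).choose, x,
          (existsUnique_fixed hS (h1 x).1 (h1 x).2).choose_spec.1, x.2⟩
        invFun := fun z => ⟨z.2.1, z.2.2.2⟩
        left_inv := fun x => rfl
        right_inv := fun z => Sigma.subtype_ext
          (((existsUnique_fixed hS (h1 ⟨z.2.1, z.2.2.2⟩).1 (h1 ⟨z.2.1, z.2.2.2⟩).2).choose_spec.2
            z.1 z.2.2.1).symm) rfl }
    rw [Nat.card_congr e, Nat.card_sigma, Finset.sum_congr rfl fun p _ => hpt p, Finset.sum_const,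
      Finset.card_univ, ← Nat.card_eq_fintype_card, card_suzukiOvoid, smul_eq_mul]
  have hord : ∀ a b : F, (orderOf (uniEl hS a b) = 2 ↔ a = 0 ∧ b ≠ 0) ∧
      (orderOf (uniEl hS a b) = 4 ↔ a ≠ 0) := by
    intro a b
    have hd : orderOf (uniEl hS a b) ∣ 2 ^ 2 :=
      orderOf_dvd_of_pow_eq_one (pow_four_of_mem_uniSub hS (uniEl_mem hS a b))
    have hsq : uniEl hS a b ^ 2 = 1 ↔ a = 0 := by
      rw [pow_two, uniEl_sq hS, ← uniEl_zero hS, uniEl_eq_iff]
      constructor
      · rintro ⟨-, h⟩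
        rcases mul_eq_zero.1 h with h | h
        · exact θ_eq_zero.1 h
        · exact h
      · rintro rfl; simp
    have h2 := orderOf_dvd_iff_pow_eq_one (x := uniEl hS a b) (n := 2)
    rw [hsq] at h2
    have h1 : orderOf (uniEl hS a b) = 1 ↔ a = 0 ∧ b = 0 := by
      rw [orderOf_eq_one_iff, ← uniEl_zero hS, uniEl_eq_iff]
    obtain ⟨i, hi, e⟩ := (Nat.dvd_prime_pow Nat.prime_two).1 hd
    rw [e] at h1 h2 ⊢
    interval_cases i
    · simp at h1 h2
      simp [h1.1, h1.2]
    · simp at h1 h2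
      simp [h2, h1 h2]
    · simp at h1 h2
      simp [h2]
  constructor
  · refine main 2 (Or.inl rfl) _ ?_
    rw [← Nat.card_eq_fintype_card (α := F), ← Nat.card_units]
    exact Nat.card_congr
      { toFun := fun p => Units.mk0 p.1.2 ((hord _ _).1.1 p.2).2
        invFun := fun u => ⟨(0, (u : F)), (hord _ _).1.2 ⟨rfl, u.ne_zero⟩⟩
        left_inv := fun p => Subtype.ext (Prod.ext ((hord _ _).1.1 p.2).1.symm rfl)
        right_inv := fun u => Units.ext rfl }
  · refine main 4 (Or.inr rfl) _ ?_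
    rw [← Nat.card_eq_fintype_card (α := F), ← Nat.card_units, mul_comm (Nat.card F),
      ← Nat.card_prod]
    exact Nat.card_congr
      { toFun := fun p => (Units.mk0 p.1.1 ((hord _ _).2.1 p.2), p.1.2)
        invFun := fun u => ⟨((u.1 : F), u.2), (hord _ _).2.2 u.1.ne_zero⟩
        left_inv := fun p => rfl
        right_inv := fun u => Prod.ext (Units.ext rfl) rfl }

end CfsgLib.SuzukiLocal
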