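import Cfsg.Agent.Suzuki.Borel
import Cfsg.Agent.Suzuki.Centralizers

/-!
# Sylow 2-subgroups of `Cfsg.Sz`: conjugacy to `uniSub`, the TI property, involutions
-/

set_option autoImplicit false
set_option linter.unusedSectionVars false

namespace CfsgLib.SuzukiLocal

open CfsgLib.Suzuki

variable {F : Type*} [Field F] [Fintype F] {m : ℕ}

/-- Every Sylow 2-subgroup is conjugate to `uniSub`. -/
theorem exists_conj_sylow (hS : SzField F m) (P : Sylow 2 (Cfsg.Sz F m)) :
    ∃ k : Cfsg.Sz F m,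
      (P : Subgroup (Cfsg.Sz F m)) = (uniSub hS).map (MulAut.conj k).toMonoidHom := by
  have : Fact (Nat.Prime 2) := ⟨Nat.prime_two⟩
  obtain ⟨k, hk⟩ := MulAction.exists_smul_eq (Cfsg.Sz F m) (uniSylow hS) P
  refine ⟨k, ?_⟩
  rw [← hk, Sylow.coe_subgroup_smul, uniSylow_coe hS]
  rfl

/-- A nontrivial element of `uniSub` fixes only the base point. -/
theorem eq_infinity_of_uniEl_fix (hS : SzField F m) {a b : F} (hne : uniEl hS a b ≠ 1)
    {P : Projectivization F (Fin 4 → F)} (hP : P ∈ Cfsg.suzukiOvoid F m)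
    (h : uniEl hS a b • P = P) : P = Cfsg.suzukiPointInfinity F := by
  rcases mem_suzukiOvoid_iff.1 hP with h' | ⟨x, y, h'⟩
  · exact h'
  · exfalso
    subst h'
    have h2 : uni m a b • affPt m x y = affPt m x y := h
    rw [uni_smul_aff hS] at h2
    obtain ⟨ha, hb⟩ := affPt_injective h2
    have ha' : a = 0 := by linear_combination ha
    subst ha'
    have hb' : b = 0 := by simpa [θ_def] using hb
    exact hne (by rw [hb', uniEl_zero])

/-- The base point is fixed by any element conjugating one nontrivial element of `uniSub` into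
`uniSub`. -/
theorem fix_infinity_of_conj_mem (hS : SzField F m) {k : Cfsg.Sz F m} {a b : F}
    (hne : uniEl hS a b ≠ 1) (h : k * uniEl hS a b * k⁻¹ ∈ uniSub hS) :
    (k : Matrix.SpecialLinearGroup (Fin 4) F) • Cfsg.suzukiPointInfinity F =
      Cfsg.suzukiPointInfinity F := by
  obtain ⟨c, d, e⟩ := h
  have hne' : uniEl hS c d ≠ 1 := fun h1 => hne (by
    rwa [← e, mul_inv_eq_one, mul_eq_left] at h1)
  refine eq_infinity_of_uniEl_fix hS hne'
    ((MulAction.mem_stabilizer_set.1 k.2 _).2 infinity_mem) ?_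
  rw [← e]
  show (k * uniEl hS a b * k⁻¹) • (k • Cfsg.suzukiPointInfinity F) = k • Cfsg.suzukiPointInfinity F
  rw [mul_smul, mul_smul, inv_smul_smul, uniEl_smul_infinity]

/-- The base point stabilizer normalizes `uniSub`. -/
theorem map_conj_uniSub (hS : SzField F m) {k : Cfsg.Sz F m}
    (h : (k : Matrix.SpecialLinearGroup (Fin 4) F) • Cfsg.suzukiPointInfinity F =
      Cfsg.suzukiPointInfinity F) :
    (uniSub hS).map (MulAut.conj k).toMonoidHom = uniSub hS := by
  have hk : k ∈ Subgroup.normalizer (uniSub hS : Set (Cfsg.Sz F m)) := by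
    rw [normalizer_uniSub hS]
    exact h
  ext x
  simp only [Subgroup.mem_map, MulEquiv.coe_toMonoidHom, MulAut.conj_apply]
  constructor
  · rintro ⟨y, hy, rfl⟩
    exact (Subgroup.mem_normalizer_iff.1 hk y).1 hy
  · intro hx
    exact ⟨k⁻¹ * x * k, (Subgroup.mem_normalizer_iff''.1 hk x).1 hx, by group⟩

/-- An element of `uniSub` squaring to `1` is central. -/
theorem mem_uniCenter_of_sq (hS : SzField F m) {g : Cfsg.Sz F m} (hg : g ∈ uniSub hS)
    (h : g * g = 1) : ∃ b, g = uniEl hS 0 b := by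
  obtain ⟨a, b, rfl⟩ := hg
  rw [uniEl_sq hS, ← uniEl_zero hS, uniEl_eq_iff] at h
  rcases mul_eq_zero.1 h.2 with h1 | h1
  · exact ⟨b, by rw [θ_eq_zero.1 h1]⟩
  · exact ⟨b, by rw [h1]⟩

/-- Conjugation of a central element by a point stabilizer element. -/
theorem conj_uniCenter (hS : SzField F m) (c d : F) (μ : Fˣ) (e : F) :
    (uniEl hS c d * torSz hS μ) * uniEl hS 0 e * (uniEl hS c d * torSz hS μ)⁻¹ =
      uniEl hS 0 ((μ : F) * θ m (μ : F) * e) := by
  rw [show (uniEl hS c d * torSz hS μ) * uniEl hS 0 e * (uniEl hS c d * torSz hS μ)⁻¹ =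
    uniEl hS c d * (torSz hS μ * uniEl hS 0 e * (torSz hS μ)⁻¹) * (uniEl hS c d)⁻¹ by group,
    torSz_conj_uniEl, mul_zero, mul_inv_eq_iff_eq_mul, uniEl_mul, uniEl_mul, uniEl_eq_iff]
  refine ⟨by ring, ?_⟩
  simp [θ_def]
  ring

end CfsgLib.SuzukiLocal
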