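import Cfsg.Agent.SuzukiLocal.GoodTorus
import Cfsg.Agent.SuzukiLocal.PointFacts
import Cfsg.Agent.S2238

/-!
# The three classes of maximal tori of `Cfsg.Sz` and its solvable subgroups
-/

set_option autoImplicit false
set_option linter.unusedSectionVars false

namespace CfsgLib.SuzukiLocal

open CfsgLib.Suzuki MulAction

variable {F : Type*} [Field F] [Fintype F] {m : ℕ}

/-- Index of a torus in its normalizer. -/
def eT : Fin 3 → ℕ := ![2, 4, 4]

/-- Torus orders. -/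
def kT (F : Type*) [Fintype F] (m : ℕ) : Fin 3 → ℕ :=
  ![Fintype.card F - 1, Fintype.card F + 2 ^ (m + 1) + 1, Fintype.card F - 2 ^ (m + 1) + 1]

/-- Representatives of the three torus classes. -/
structure Tori (hS : SzField F m) (A : Fin 3 → Subgroup (Cfsg.Sz F m)) : Prop where
  good : ∀ i, GoodTorus (A i) (eT i)
  card : ∀ i, Nat.card (A i) = kT F m i
  split : A 0 = (torSz hS).range
  cover : ∀ x : Cfsg.Sz F m, x ≠ 1 → x ^ 4 = 1 ∨ ∃ i g, g⁻¹ * x * g ∈ A i

theorem kT_facts (hS : SzField F m) :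
    (∀ i, 1 < kT F m i ∧ ¬ 2 ∣ kT F m i) ∧
      (∀ i j, i ≠ j → Nat.Coprime (kT F m i) (kT F m j)) := by
  obtain ⟨q, r, hq, hr, hqF, h8, hrr, hrq, h4, hr2, hq2⟩ := Cfsg.Agent.S2238.sizes hS
  have hprod : (q + r + 1) * (q - r + 1) = q * q + 1 := by
    zify [hrq.le]
    have : (r : ℤ) * r = 2 * q := by exact_mod_cast hrr
    linear_combination -this
  have odd : ∀ i, 1 < kT F m i ∧ ¬ 2 ∣ kT F m i := by
    intro i
    fin_cases i <;> simp [kT, hqF, ← hr] <;> omega
  have h1 : ∀ k, k ∣ q - 1 → k ∣ q * q + 1 → k ∣ 2 := by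
    intro k hk hk'
    have e : q * q + 1 = (q + 1) * (q - 1) + 2 := by
      obtain ⟨t, rfl⟩ : ∃ t, q = t + 1 := ⟨q - 1, by omega⟩
      simp only [Nat.add_sub_cancel]
      ring
    rw [e] at hk'
    exact (Nat.dvd_add_right (hk.mul_left _)).1 hk'
  refine ⟨odd, fun i j hij => Nat.coprime_of_dvd fun p hp hpi hpj => ?_⟩
  have hp2 : p ≠ 2 := by rintro rfl; exact (odd i).2 hpi
  have hn2 : ¬ p ∣ 2 := fun h => hp2 ((Nat.prime_dvd_prime_iff_eq hp Nat.prime_two).1 h)
  have hpm : p ∣ q + r + 1 → p ∣ q - r + 1 → False := by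
    intro a b
    have h2 := Nat.dvd_sub a b
    rw [show q + r + 1 - (q - r + 1) = 2 * r by omega] at h2
    have h3 : p ∣ r := (hp.dvd_mul.1 h2).resolve_left hn2
    have h4' : p ∣ 2 * q := hrr ▸ h3.mul_right r
    have h5 : p ∣ q := (hp.dvd_mul.1 h4').resolve_left hn2
    exact hp.ne_one (Nat.dvd_one.1 ((Nat.dvd_add_right (h5.mul_right q)).1 (hprod ▸ a.mul_right _)))
  fin_cases i <;> fin_cases j <;> simp [kT, hqF, ← hr] at hpi hpj hij
  all_goals first
    | exact hpm hpi hpj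
    | exact hpm hpj hpi
    | exact hn2 (h1 p hpi (hprod ▸ hpj.mul_right _))
    | exact hn2 (h1 p hpi (hprod ▸ hpj.mul_left _))
    | exact hn2 (h1 p hpj (hprod ▸ hpi.mul_right _))
    | exact hn2 (h1 p hpj (hprod ▸ hpi.mul_left _))

theorem goodTorus_anis (hS : SzField F m) {z : Cfsg.Sz F m} (hz : IsAnisElt z)
    (hN : Nat.card (Subgroup.normalizer (cT z : Set (Cfsg.Sz F m))) = 4 * Nat.card (cT z)) :
    GoodTorus (cT z) 4 :=
  ⟨hz.cyclic hS, fun h => hz.ne_one ((Subgroup.eq_bot_iff_forall _).1 h z (mem_cT.2 rfl)),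
    (Cfsg.Agent.S2238.orders_member hS (Cfsg.Agent.S2238.card_cT_mem hS hz)
      (Cfsg.Agent.S2238.card_cT_mem hS hz)).1.2,
    fun _ ha h1 => hz.cT_eq hS ha h1, Or.inr rfl, hN⟩

theorem goodTorus_split (hS : SzField F m) : GoodTorus (torSz (F := F) hS).range 2 := by
  classical
  have hcard := Cfsg.Agent.S2238.card_range_torSz (F := F) hS
  have hq := hS.card_eq
  have h8 := hS.eight_le
  set T := (torSz (F := F) hS).range with hT
  set N := Subgroup.normalizer (T : Set (Cfsg.Sz F m))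
  have hcy : IsCyclic T := isCyclic_of_surjective _ (MonoidHom.rangeRestrict_surjective _)
  have hcen : ∀ a ∈ T, a ≠ 1 → Subgroup.centralizer {a} = T := by
    rintro _ ⟨μ, rfl⟩ h1
    exact centralizer_torSz hS (fun e => h1 (by rw [e, map_one]))
  obtain ⟨μ, hμ⟩ : ∃ μ : Fˣ, μ ≠ 1 := by
    have : 1 < Fintype.card Fˣ := by rw [Fintype.card_units]; omega
    exact Fintype.exists_ne_of_one_lt_card this 1
  have hwT : ∀ ν : Fˣ, weylEl hS * torSz hS ν * (weylEl hS)⁻¹ ∈ T := fun ν => by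
    refine ⟨ν⁻¹, Subtype.ext ?_⟩
    show tor m ν⁻¹ = weyl * tor m ν * weyl⁻¹
    rw [inv_eq_of_mul_eq_one_right (weyl_mul_weyl (F := F)), weyl_conj_tor]
  have hww : (weylEl hS : Cfsg.Sz F m) * weylEl hS = 1 := Subtype.ext weyl_mul_weyl
  have hwN : weylEl hS ∈ N := by
    rw [Subgroup.mem_normalizer_iff]
    intro h
    refine ⟨fun hh => by obtain ⟨ν, rfl⟩ := hh; exact hwT ν, fun hh => ?_⟩
    obtain ⟨ν, hν⟩ := hh
    have := hwT ν
    rw [hν, show weylEl hS * (weylEl hS * h * (weylEl hS)⁻¹) * (weylEl hS)⁻¹ =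
      (weylEl hS * weylEl hS) * h * (weylEl hS * weylEl hS)⁻¹ by group, hww, one_mul, inv_one,
      mul_one] at this
    exact this
  have hbase : ∀ n ∈ N, (n • ovoidInf (F := F) (m := m) = ovoidInf ∨
      n • ovoidInf (F := F) (m := m) = ovoidZero) ∧
      (n • ovoidZero (F := F) (m := m) = ovoidInf ∨ n • ovoidZero (F := F) (m := m) = ovoidZero) := by
    intro n hn
    obtain ⟨ν, hν⟩ := (Subgroup.mem_normalizer_iff''.1 hn (torSz hS μ)).1 ⟨μ, rfl⟩
    have hfix : ∀ p : Cfsg.suzukiOvoid F m, torSz hS ν • p = p → torSz hS μ • (n • p) = n • p := by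
      intro p hp
      have := conj_mem_stabilizer (k := n) hp
      rwa [hν, show n * (n⁻¹ * torSz hS μ * n) * n⁻¹ = torSz hS μ by group] at this
    exact ⟨fixed_torSz hS hμ (hfix _ (torSz_smul_base hS ν).1),
      fixed_torSz hS hμ (hfix _ (torSz_smul_base hS ν).2)⟩
  have hiff : ∀ n ∈ N, n ∈ T ↔ n • ovoidInf (F := F) (m := m) = ovoidInf := by
    intro n hn
    refine ⟨fun ⟨ν, e⟩ => e ▸ (torSz_smul_base hS ν).1, fun h => ?_⟩
    rw [hT, ← mem_pairStab_iff hS]
    refine ⟨congrArg Subtype.val h, ?_⟩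
    rcases (hbase n hn).2 with h' | h'
    · exact absurd (smul_left_cancel n (h.trans h'.symm)) ovoidInf_ne_zero
    · exact congrArg Subtype.val h'
  have hw : weylEl hS • ovoidInf (F := F) (m := m) = ovoidZero ∧
      weylEl hS • ovoidZero (F := F) (m := m) = ovoidInf :=
    ⟨Subtype.ext weyl_smul_infinity, Subtype.ext weyl_smul_zero⟩
  have hidx : (T.subgroupOf N).index = 2 := by
    rw [Subgroup.index_eq_two_iff']
    refine ⟨⟨weylEl hS, hwN⟩, fun b => ?_⟩
    rw [Subgroup.mem_subgroupOf, Subgroup.mem_subgroupOf, Subgroup.coe_mul,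
      hiff _ b.2, hiff _ (mul_mem hwN b.2), mul_smul]
    rcases (hbase b b.2).1 with h | h <;> rw [h]
    · exact Or.inr ⟨rfl, fun e => ovoidInf_ne_zero (hw.1.symm.trans e).symm⟩
    · exact Or.inl ⟨hw.2, fun e => ovoidInf_ne_zero e.symm⟩
  refine ⟨hcy, ?_, ?_, hcen, Or.inl rfl, ?_⟩
  · intro h
    exact hμ (torSz_injective hS (((Subgroup.eq_bot_iff_forall _).1 h _ ⟨μ, rfl⟩).trans
      (map_one _).symm))
  · rw [hcard]
    have : 2 ∣ 2 ^ (2 * m + 1) := dvd_pow_self 2 (by omega)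
    omega
  · have := Subgroup.card_mul_index (T.subgroupOf N)
    rw [hidx, Nat.card_congr (Subgroup.subgroupOfEquivOfLe Subgroup.le_normalizer).toEquiv] at this
    rw [← this, mul_comm]

theorem exists_tori (hS : SzField F m) : ∃ A, Tori (F := F) (m := m) hS A := by
  obtain ⟨z₁, hz₁, hc₁, hN₁⟩ :=
    exists_torus hS (k := Fintype.card F + 2 ^ (m + 1) + 1) (Or.inl rfl)
  obtain ⟨z₂, hz₂, hc₂, hN₂⟩ :=
    exists_torus hS (k := Fintype.card F - 2 ^ (m + 1) + 1) (Or.inr rfl)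
  refine ⟨![(torSz hS).range, cT z₁, cT z₂], ⟨fun i => ?_, fun i => ?_, rfl, fun x hx => ?_⟩⟩
  · fin_cases i
    · exact goodTorus_split hS
    · exact goodTorus_anis hS hz₁ (hN₁.trans (by rw [hc₁]))
    · exact goodTorus_anis hS hz₂ (hN₂.trans (by rw [hc₂]))
  · fin_cases i
    · show Nat.card (torSz hS).range = Fintype.card F - 1
      rw [Cfsg.Agent.S2238.card_range_torSz hS, hS.card_eq]
    · exact hc₁
    · exact hc₂
  · by_cases hfix : FixesPoint x
    · obtain ⟨k, ⟨a, b, e⟩ | ⟨μ, -, e⟩⟩ := fixesPoint_cases hS hx hfix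
      · refine Or.inl ?_
        have := pow_four_of_mem_uniSub hS (e ▸ uniEl_mem hS a b : k * x * k⁻¹ ∈ uniSub hS)
        rwa [conj_pow, mul_inv_eq_one, mul_eq_left] at this
      · exact Or.inr ⟨0, k⁻¹, by rw [inv_inv, e]; exact ⟨μ, rfl⟩⟩
    · refine Or.inr ?_
      obtain ⟨p, w, hp, hw, hle⟩ := exists_anis_of_not_fixesPoint hS hx hfix
      have hwA : IsAnisElt w := by rw [IsAnisElt, hw]; exact hp
      have hxw : x ∈ cT w := hle (Subgroup.mem_centralizer_singleton_iff.2 rfl)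
      have hpw : p ∣ Nat.card (cT w) := hw ▸ orderOf_dvd_card_cT w
      have go : ∀ z : Cfsg.Sz F m, IsAnisElt z → p ∣ Nat.card (cT z) →
          ∃ g : Cfsg.Sz F m, g⁻¹ * x * g ∈ cT z := by
        intro z hz hd
        obtain ⟨k, hk⟩ := hwA.exists_conj hS hz hp.prime hpw hd
        exact ⟨k⁻¹, by rw [inv_inv, ← hk]; exact mem_cT_conj hxw⟩
      have hd := hwA.card_dvd hS
      obtain ⟨q, r, hq, hr, hqF, h8, hrr, hrq, -⟩ := Cfsg.Agent.S2238.sizes hS
      have hprod : (q + r + 1) * (q - r + 1) = Fintype.card F ^ 2 + 1 := by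
        rw [hqF]
        zify [hrq.le]
        have : (r : ℤ) * r = 2 * q := by exact_mod_cast hrr
        linear_combination -this
      rcases hp.prime.dvd_mul.1 (hprod ▸ hp.dvd) with h | h
      · exact ⟨1, go z₁ hz₁ (by rw [hc₁, hqF, ← hr]; exact h)⟩
      · exact ⟨2, go z₂ hz₂ (by rw [hc₂, hqF, ← hr]; exact h)⟩

theorem smul_mk_iff {G : Type*} [Group G] (N : Subgroup G) (y g : G) :
    y • (g : G ⧸ N) = (g : G ⧸ N) ↔ g⁻¹ * y * g ∈ N := by
  show ((y * g : G) : G ⧸ N) = g ↔ _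
  rw [eq_comm, QuotientGroup.eq, mul_assoc]

namespace Tori

variable {hS : SzField F m} {A : Fin 3 → Subgroup (Cfsg.Sz F m)} (hA : Tori hS A)
include hA

theorem stabilizer_mk (i : Fin 3) (g : Cfsg.Sz F m) :
    stabilizer (Cfsg.Sz F m) (g : Cfsg.Sz F m ⧸ Subgroup.normalizer (A i : Set (Cfsg.Sz F m))) =
      Subgroup.normalizer ((A i).map (MulAut.conj g).toMonoidHom : Set (Cfsg.Sz F m)) := by
  ext y
  rw [mem_stabilizer_iff, smul_mk_iff, ← Subgroup.map_equiv_normalizer_eq,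
    Subgroup.mem_map_equiv, MulAut.conj_symm_apply]

theorem index_eq {i j : Fin 3} {a g g' : Cfsg.Sz F m} (h1 : a ≠ 1) (h : g⁻¹ * a * g ∈ A i)
    (h' : g'⁻¹ * a * g' ∈ A j) : i = j := by
  have e1 : (A i).map (MulAut.conj g).toMonoidHom = (A j).map (MulAut.conj g').toMonoidHom := by
    have m1 : a ∈ (A i).map (MulAut.conj g).toMonoidHom := by
      rw [Subgroup.mem_map_equiv, MulAut.conj_symm_apply]; exact h
    have m2 : a ∈ (A j).map (MulAut.conj g').toMonoidHom := by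
      rw [Subgroup.mem_map_equiv, MulAut.conj_symm_apply]; exact h'
    rw [← ((hA.good i).map_conj g).centralizer_eq a m1 h1,
      ← ((hA.good j).map_conj g').centralizer_eq a m2 h1]
  have e2 : Nat.card (A i) = Nat.card (A j) := by
    rw [Nat.card_congr ((A i).equivMapOfInjective (MulAut.conj g).toMonoidHom (MulAut.conj g).injective).toEquiv, e1,
      ← Nat.card_congr ((A j).equivMapOfInjective (MulAut.conj g').toMonoidHom (MulAut.conj g').injective).toEquiv]
  rw [hA.card, hA.card] at e2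
  by_contra hne
  have := (kT_facts hS).2 i j hne
  rw [e2, Nat.coprime_self] at this
  exact absurd this ((kT_facts hS).1 j).1.ne'

theorem mk_eq {i : Fin 3} {a g g' : Cfsg.Sz F m} (h1 : a ≠ 1) (h : g⁻¹ * a * g ∈ A i)
    (h' : g'⁻¹ * a * g' ∈ A i) :
    (g : Cfsg.Sz F m ⧸ Subgroup.normalizer (A i : Set (Cfsg.Sz F m))) = g' := by
  rw [QuotientGroup.eq]
  refine (hA.good i).mem_normalizer_of_conj_mem h' ?_ ?_
  · intro e
    rw [mul_assoc, inv_mul_eq_one] at e
    exact h1 (by simpa using (mul_inv_eq_one.2 e.symm))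
  · rw [show g⁻¹ * g' * (g'⁻¹ * a * g') * (g⁻¹ * g')⁻¹ = g⁻¹ * a * g by group]
    exact h

/-- A solvable subgroup fixes a point or a torus. -/
theorem solvable_cases {H : Subgroup (Cfsg.Sz F m)} [Group.IsSolvable H] (hne : H ≠ ⊥) :
    (∃ p : Cfsg.suzukiOvoid F m, ∀ h ∈ H, h • p = p) ∨
      ∃ (i : Fin 3) (c : Cfsg.Sz F m ⧸ Subgroup.normalizer (A i : Set (Cfsg.Sz F m))),
        ∀ h ∈ H, h • c = c := by
  have := (Subgroup.nontrivial_iff_ne_bot H).2 hne
  obtain ⟨N, hN, hNb, hcomm⟩ := exists_normal_comm_ne_bot (G := H)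
  obtain ⟨⟨x, hxH⟩, hxN, hx1⟩ : ∃ x ∈ N, x ≠ 1 := by
    by_contra! h
    exact hNb ((Subgroup.eq_bot_iff_forall N).2 h)
  have hx1' : x ≠ 1 := fun e => hx1 (Subtype.ext e)
  have hc : ∀ h ∈ H, h * x * h⁻¹ * x = x * (h * x * h⁻¹) := fun h hh =>
    congrArg Subtype.val (hcomm _ (hN.conj_mem _ hxN ⟨h, hh⟩) _ hxN)
  rcases hA.cover x hx1' with h4 | ⟨i, g, hg⟩
  · left
    obtain ⟨p, hp, huniq⟩ := existsUnique_fixed hS hx1' h4
    refine ⟨p, fun h hh => ?_⟩
    have hy : (h * x * h⁻¹) • (h • p) = h • p := conj_mem_stabilizer hp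
    obtain ⟨p', hp', huniq'⟩ := existsUnique_fixed hS (x := h * x * h⁻¹)
      (fun e => hx1' (by rwa [mul_inv_eq_one, mul_eq_left] at e))
      (by rw [conj_pow, h4, mul_one, mul_inv_cancel])
    have h2 : (h * x * h⁻¹) • (x • (h • p)) = x • (h • p) := by
      rw [← mul_smul, hc h hh, mul_smul, hy]
    exact huniq _ ((huniq' _ h2).trans (huniq' _ hy).symm)
  · right
    refine ⟨i, g, fun h hh => ?_⟩
    rw [smul_mk_iff]
    have hne1 : g⁻¹ * x * g ≠ 1 := fun e => hx1' (by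
      rw [mul_assoc, inv_mul_eq_one] at e
      exact mul_eq_right.1 e.symm)
    refine (hA.good i).mem_normalizer_of_conj_mem hg hne1 ?_
    refine (hA.good i).mem_of_commute hg hne1 ?_
    calc g⁻¹ * h * g * (g⁻¹ * x * g) * (g⁻¹ * h * g)⁻¹ * (g⁻¹ * x * g)
        = g⁻¹ * (h * x * h⁻¹ * x) * g := by group
      _ = g⁻¹ * (x * (h * x * h⁻¹)) * g := by rw [hc h hh]
      _ = _ := by group

/-- When two elements generate a solvable subgroup. -/
theorem isSolvable_closure_iff {x y : Cfsg.Sz F m} (hx : x ≠ 1) :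
    Group.IsSolvable ↥(Subgroup.closure ({x, y} : Set (Cfsg.Sz F m))) ↔
      (∃ p : Cfsg.suzukiOvoid F m, x • p = p ∧ y • p = p) ∨
      ∃ (i : Fin 3) (c : Cfsg.Sz F m ⧸ Subgroup.normalizer (A i : Set (Cfsg.Sz F m))),
        x • c = c ∧ y • c = c := by
  constructor
  · intro _
    rcases hA.solvable_cases (H := Subgroup.closure {x, y}) (fun h => hx
      ((Subgroup.eq_bot_iff_forall _).1 h x (Subgroup.subset_closure (by simp)))) with
      ⟨p, hp⟩ | ⟨i, c, hc⟩
    · exact Or.inl ⟨p, hp x (Subgroup.subset_closure (by simp)),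
        hp y (Subgroup.subset_closure (by simp))⟩
    · exact Or.inr ⟨i, c, hc x (Subgroup.subset_closure (by simp)),
        hc y (Subgroup.subset_closure (by simp))⟩
  · intro h
    suffices ∃ K : Subgroup (Cfsg.Sz F m), Group.IsSolvable K ∧ x ∈ K ∧ y ∈ K by
      obtain ⟨K, hK, h1, h2⟩ := this
      have hle : Subgroup.closure {x, y} ≤ K := by
        rw [Subgroup.closure_le]
        rintro z (rfl | rfl)
        · exact h1
        · exact h2
      exact Group.isSolvable_of_isSolvable_injective (Subgroup.inclusion_injective hle)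
    rcases h with ⟨p, h1, h2⟩ | ⟨i, c, h1, h2⟩
    · exact ⟨_, isSolvable_stabilizer hS p, h1, h2⟩
    · obtain ⟨g, rfl⟩ := QuotientGroup.mk_surjective c
      refine ⟨stabilizer (Cfsg.Sz F m) (g : Cfsg.Sz F m ⧸ Subgroup.normalizer (A i : Set _)),
        ?_, h1, h2⟩
      rw [hA.stabilizer_mk i g]
      exact ((hA.good i).map_conj g).isSolvable_normalizer

end Tori

end CfsgLib.SuzukiLocal
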