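import Mathlib

/-!
# TI cyclic subgroups whose normalizer is a Frobenius group with a 2-group on top

`GoodTorus A e`: `A` is cyclic of odd order, it is the centralizer of each of its nontrivial
elements, and `|N(A)| = e |A|` with `e ∈ {2, 4}`.
-/

set_option autoImplicit false
set_option linter.unusedSectionVars false

namespace CfsgLib.SuzukiLocal

variable {G : Type*} [Group G] [Finite G]

/-- A cyclic, odd, TI self-centralizing subgroup with normalizer index 2 or 4. -/
structure GoodTorus (A : Subgroup G) (e : ℕ) : Prop where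
  cyclic : IsCyclic A
  ne_bot : A ≠ ⊥
  odd : ¬ 2 ∣ Nat.card A
  centralizer_eq : ∀ a ∈ A, a ≠ 1 → Subgroup.centralizer {a} = A
  index_cases : e = 2 ∨ e = 4
  card_normalizer : Nat.card (Subgroup.normalizer (A : Set G)) = e * Nat.card A

namespace GoodTorus

variable {A : Subgroup G} {e : ℕ} (hA : GoodTorus A e)
include hA

omit [Finite G] in
theorem comm {a b : G} (ha : a ∈ A) (hb : b ∈ A) : a * b = b * a := by
  have := hA.cyclic
  let := IsCyclic.commGroup (α := A)
  exact congrArg Subtype.val (mul_comm (⟨a, ha⟩ : A) ⟨b, hb⟩)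

omit [Finite G] in
theorem mem_of_commute {a y : G} (ha : a ∈ A) (h1 : a ≠ 1) (h : y * a = a * y) : y ∈ A := by
  rw [← hA.centralizer_eq a ha h1]
  exact Subgroup.mem_centralizer_singleton_iff.2 h

omit [Finite G] in
theorem exists_ne_one : ∃ a ∈ A, a ≠ 1 := by
  by_contra! h
  exact hA.ne_bot ((Subgroup.eq_bot_iff_forall A).2 h)

theorem mem_normalizer_of_conj_mem {a g : G} (ha : a ∈ A) (h1 : a ≠ 1) (h : g * a * g⁻¹ ∈ A) :
    g ∈ Subgroup.normalizer (A : Set G) := by
  rw [Subgroup.mem_normalizer_iff]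
  have h1' : g * a * g⁻¹ ≠ 1 := fun e => h1 (by rwa [mul_inv_eq_one, mul_eq_left] at e)
  intro n
  constructor
  · intro hn
    refine hA.mem_of_commute h h1' ?_
    calc g * n * g⁻¹ * (g * a * g⁻¹) = g * (n * a) * g⁻¹ := by group
      _ = g * (a * n) * g⁻¹ := by rw [hA.comm hn ha]
      _ = _ := by group
  · intro hn
    refine hA.mem_of_commute ha h1 ?_
    have := hA.comm hn h
    calc n * a = g⁻¹ * (g * n * g⁻¹ * (g * a * g⁻¹)) * g := by group
      _ = g⁻¹ * (g * a * g⁻¹ * (g * n * g⁻¹)) * g := by rw [this]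
      _ = a * n := by group

omit [Finite G] in
/-- Commutators in the normalizer lie in the torus. -/
theorem comm_mem {x y : G} (hx : x ∈ Subgroup.normalizer (A : Set G))
    (hy : y ∈ Subgroup.normalizer (A : Set G)) : x * y * x⁻¹ * y⁻¹ ∈ A := by
  have := hA.cyclic
  obtain ⟨a, ha, h1⟩ := hA.exists_ne_one
  refine hA.mem_of_commute ha h1 ?_
  have key : ∀ u ∈ Subgroup.normalizer (A : Set G), ∃ i : ℤ, ∀ b ∈ A, u * b * u⁻¹ = b ^ i := by
    intro u hu
    let f : A →* A :=
      { toFun := fun b => ⟨u * b * u⁻¹, (Subgroup.mem_normalizer_iff.1 hu b).1 b.2⟩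
        map_one' := Subtype.ext (by simp)
        map_mul' := fun b c => Subtype.ext (by simp) }
    obtain ⟨i, hi⟩ := MonoidHom.map_cyclic f
    exact ⟨i, fun b hb => congrArg Subtype.val (hi ⟨b, hb⟩)⟩
  obtain ⟨i, hi⟩ := key x hx
  obtain ⟨j, hj⟩ := key y hy
  obtain ⟨i', hi'⟩ := key x⁻¹ (inv_mem hx)
  obtain ⟨j', hj'⟩ := key y⁻¹ (inv_mem hy)
  simp only [inv_inv] at hi' hj'
  have hxx : ∀ b ∈ A, b ^ (i' * i) = b := by
    intro b hb
    rw [zpow_mul, ← hi _ (zpow_mem hb _), ← hi' b hb]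
    group
  have hyy : ∀ b ∈ A, b ^ (j' * j) = b := by
    intro b hb
    rw [zpow_mul, ← hj _ (zpow_mem hb _), ← hj' b hb]
    group
  have : x * y * x⁻¹ * y⁻¹ * a * (x * y * x⁻¹ * y⁻¹)⁻¹ = a := by
    rw [show x * y * x⁻¹ * y⁻¹ * a * (x * y * x⁻¹ * y⁻¹)⁻¹ =
      x * (y * (x⁻¹ * (y⁻¹ * a * y) * x) * y⁻¹) * x⁻¹ by group, hj' a ha,
      hi' _ (zpow_mem ha _), hj _ (zpow_mem (zpow_mem ha _) _),
      hi _ (zpow_mem (zpow_mem (zpow_mem ha _) _) _), ← zpow_mul, ← zpow_mul, ← zpow_mul,
      show j' * (i' * (j * i)) = (i' * i) * (j' * j) by ring, zpow_mul, hxx a ha, hyy a ha]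
  calc x * y * x⁻¹ * y⁻¹ * a
      = x * y * x⁻¹ * y⁻¹ * a * (x * y * x⁻¹ * y⁻¹)⁻¹ * (x * y * x⁻¹ * y⁻¹) := by group
    _ = a * (x * y * x⁻¹ * y⁻¹) := by rw [this]

omit [Finite G] in
theorem isSolvable_normalizer : Group.IsSolvable ↥(Subgroup.normalizer (A : Set G)) := by
  set N := Subgroup.normalizer (A : Set G)
  rw [Group.isSolvable_def]
  refine ⟨2, ?_⟩
  rw [derivedSeries_succ, derivedSeries_one, Subgroup.commutator_eq_bot_iff_le_centralizer]
  have hle : commutator N ≤ A.subgroupOf N := by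
    rw [commutator_def, Subgroup.commutator_le]
    intro x _ y _
    rw [Subgroup.mem_subgroupOf, commutatorElement_def]
    exact hA.comm_mem x.2 y.2
  intro u hu v hv
  exact Subtype.ext (hA.comm (hle hv) (hle hu))

/-- Elements of the normalizer outside the torus are 2-elements. -/
theorem pow_four_eq_one {y : G} (hy : y ∈ Subgroup.normalizer (A : Set G)) (hyA : y ∉ A) :
    y ^ 4 = 1 := by
  set N := Subgroup.normalizer (A : Set G)
  have hidx : ∀ w ∈ N, w ^ e ∈ A := by
    intro w hw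
    have hn : (A.subgroupOf N).Normal := Subgroup.normal_in_normalizer
    have hc : (A.subgroupOf N).index = e := by
      have h := Subgroup.card_mul_index (A.subgroupOf N)
      rw [Nat.card_congr (Subgroup.subgroupOfEquivOfLe Subgroup.le_normalizer).toEquiv,
        hA.card_normalizer, mul_comm e] at h
      exact Nat.eq_of_mul_eq_mul_left Nat.card_pos h
    have := Subgroup.pow_index_mem (A.subgroupOf N) ⟨w, hw⟩
    rwa [hc] at this
  have hdvd : e ∣ 4 := by rcases hA.index_cases with rfl | rfl <;> norm_num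
  have h4 : y ^ 4 ∈ A := by
    obtain ⟨t, ht⟩ := hdvd
    rw [ht, pow_mul]
    exact pow_mem (hidx y hy) t
  by_contra hne
  exact hyA (hA.mem_of_commute h4 hne ((Commute.refl y).pow_right 4).eq)

theorem four_not_dvd_orderOf {a : G} (ha : a ∈ A) (h : a ^ 4 = 1) : a = 1 := by
  have h1 : orderOf a ∣ 4 := orderOf_dvd_of_pow_eq_one h
  have h2 : orderOf a ∣ Nat.card A := Subgroup.orderOf_dvd_natCard A ha
  have hc : Nat.Coprime (Nat.card A) 4 :=
    Nat.Coprime.pow_right 2 ((Nat.prime_two.coprime_iff_not_dvd.2 hA.odd).symm)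
  rw [← orderOf_eq_one_iff]
  exact Nat.dvd_one.1 (hc ▸ Nat.dvd_gcd h2 h1)

theorem not_mem_of_pow_four {x : G} (hx1 : x ≠ 1) (h : x ^ 4 = 1) : x ∉ A :=
  fun hx => hx1 (hA.four_not_dvd_orderOf hx h)

theorem mem_of_mem_normalizer {y : G} (hy : y ∈ Subgroup.normalizer (A : Set G))
    (h : y ^ 4 ≠ 1) : y ∈ A := by
  by_contra hn
  exact h (hA.pow_four_eq_one hy hn)

/-- An involution of the normalizer inverts the torus. -/
theorem inv_of_involution {s a : G} (hs : s ∈ Subgroup.normalizer (A : Set G))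
    (h2 : orderOf s = 2) (ha : a ∈ A) : s * a * s⁻¹ = a⁻¹ := by
  have hsA : s ∉ A := by
    refine hA.not_mem_of_pow_four (fun e => ?_) ?_
    · rw [e, orderOf_one] at h2; omega
    · exact orderOf_dvd_iff_pow_eq_one.1 (by rw [h2]; norm_num)
  have hmem : s * a * s⁻¹ ∈ A := (Subgroup.mem_normalizer_iff.1 hs a).1 ha
  have hss : s * s = 1 := by rw [← pow_two, ← h2]; exact pow_orderOf_eq_one s
  set b := a * (s * a * s⁻¹)
  have hb : b ∈ A := mul_mem ha hmem
  have hfix : s * b = b * s := by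
    have hinv : s⁻¹ = s := inv_eq_of_mul_eq_one_right hss
    calc s * b = (s * a * s⁻¹) * (s * s) * a * s⁻¹ := by simp only [b]; group
      _ = (s * a * s⁻¹) * a * s⁻¹ := by rw [hss, mul_one]
      _ = (s * a * s⁻¹) * a * s := by rw [hinv]
      _ = b * s := by rw [hA.comm hmem ha]
  by_contra hne
  refine hsA (hA.mem_of_commute hb ?_ hfix)
  intro h
  exact hne (eq_inv_of_mul_eq_one_right h)

theorem ncard_involutions :
    Nat.card {y : G // y ∈ Subgroup.normalizer (A : Set G) ∧ orderOf y = 2} = Nat.card A := by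
  set N := Subgroup.normalizer (A : Set G)
  have : Fact (Nat.Prime 2) := ⟨Nat.prime_two⟩
  obtain ⟨⟨s, hs⟩, h2⟩ := exists_prime_orderOf_dvd_card' (G := N) 2 (by
    rw [hA.card_normalizer]
    rcases hA.index_cases with rfl | rfl <;> exact Dvd.dvd.mul_right (by norm_num) _)
  rw [Subgroup.orderOf_mk] at h2
  have hs4 : s ^ 4 = 1 := orderOf_dvd_iff_pow_eq_one.1 (by rw [h2]; norm_num)
  have hs1 : s ≠ 1 := fun e => by rw [e, orderOf_one] at h2; omega
  have hsA := hA.not_mem_of_pow_four hs1 hs4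
  have hss : s * s = 1 := by rw [← pow_two, ← h2]; exact pow_orderOf_eq_one s
  symm
  refine Nat.card_eq_of_bijective (fun a : A => ⟨s * a, mul_mem hs (Subgroup.le_normalizer a.2),
    orderOf_eq_prime ?_ ?_⟩) ⟨?_, ?_⟩
  · have := hA.inv_of_involution hs h2 a.2
    calc (s * (a : G)) ^ 2 = (s * a * s⁻¹) * (s * s) * a := by rw [pow_two]; group
      _ = 1 := by rw [this, hss]; group
  · intro h
    exact hsA (by rw [eq_inv_of_mul_eq_one_left h]; exact inv_mem a.2)
  · intro a b h
    exact Subtype.ext (mul_left_cancel (congrArg Subtype.val h))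
  · rintro ⟨t, ht, ht2⟩
    refine ⟨⟨s⁻¹ * t, ?_⟩, Subtype.ext (mul_inv_cancel_left s t)⟩
    obtain ⟨a, ha, h1⟩ := hA.exists_ne_one
    refine hA.mem_of_commute ha h1 ?_
    have e1 := hA.inv_of_involution ht ht2 ha
    have e2 := hA.inv_of_involution hs h2 ha
    calc s⁻¹ * t * a = s⁻¹ * (t * a * t⁻¹) * t := by group
      _ = s⁻¹ * (s * a * s⁻¹) * t := by rw [e1, e2]
      _ = a * (s⁻¹ * t) := by group

theorem ncard_order_four :
    Nat.card {y : G // y ∈ Subgroup.normalizer (A : Set G) ∧ orderOf y = 4} =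
      (e - 2) * Nat.card A := by
  classical
  set N := Subgroup.normalizer (A : Set G)
  have h2 := hA.ncard_involutions
  have hN := hA.card_normalizer
  change Nat.card ↥(N : Set G) = _ at hN
  have hle : (A : Set G) ⊆ N := Subgroup.le_normalizer
  have key : (N : Set G) \ A = {y | y ∈ N ∧ orderOf y = 2} ∪ {y | y ∈ N ∧ orderOf y = 4} := by
    ext y
    constructor
    · rintro ⟨hy, hyA⟩
      have h4 := orderOf_dvd_of_pow_eq_one (hA.pow_four_eq_one hy hyA)
      obtain ⟨i, hi, e'⟩ := (Nat.dvd_prime_pow Nat.prime_two).1 (show orderOf y ∣ 2 ^ 2 from h4)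
      interval_cases i
      · exact absurd ((orderOf_eq_one_iff.1 e') ▸ A.one_mem) hyA
      · exact Or.inl ⟨hy, e'⟩
      · exact Or.inr ⟨hy, e'⟩
    · rintro (⟨hy, h⟩ | ⟨hy, h⟩)
      all_goals
        exact ⟨hy, hA.not_mem_of_pow_four (fun e' => by rw [e', orderOf_one] at h; omega)
          (orderOf_dvd_iff_pow_eq_one.1 (by simp [h]))⟩
  have h := congrArg Set.ncard key
  rw [Set.ncard_union_eq (Set.disjoint_left.2 fun y h h' => by
    have := h.2.symm.trans h'.2; omega), Set.ncard_sdiff hle, ← Nat.card_coe_set_eq,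
    ← Nat.card_coe_set_eq, ← Nat.card_coe_set_eq, ← Nat.card_coe_set_eq, hN] at h
  change e * Nat.card A - Nat.card A = Nat.card {y : G // y ∈ N ∧ orderOf y = 2} +
    Nat.card {y : G // y ∈ N ∧ orderOf y = 4} at h
  rw [h2] at h
  rcases hA.index_cases with rfl | rfl <;> omega

omit [Finite G] in
/-- Conjugates of a good torus are good tori. -/
theorem map_conj (g : G) : GoodTorus (A.map (MulAut.conj g).toMonoidHom) e := by
  set f : G ≃* G := MulAut.conj g
  have hmem : ∀ y, y ∈ A.map f.toMonoidHom ↔ f.symm y ∈ A := fun y => Subgroup.mem_map_equiv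
  refine ⟨?_, ?_, ?_, ?_, hA.index_cases, ?_⟩
  · have := hA.cyclic
    exact isCyclic_of_surjective _ (A.equivMapOfInjective f.toMonoidHom f.injective).surjective
  · rw [ne_eq, Subgroup.map_eq_bot_iff_of_injective _ f.injective]
    exact hA.ne_bot
  · rw [← Nat.card_congr (A.equivMapOfInjective f.toMonoidHom f.injective).toEquiv]
    exact hA.odd
  · intro a ha h1
    ext y
    rw [hmem, ← hA.centralizer_eq _ ((hmem a).1 ha) (fun e => h1 (by simpa using congrArg f e)),
      Subgroup.mem_centralizer_singleton_iff, Subgroup.mem_centralizer_singleton_iff, ← map_mul,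
      ← map_mul, f.symm.injective.eq_iff]
  · rw [← Subgroup.map_equiv_normalizer_eq, ← Nat.card_congr (Subgroup.equivMapOfInjective _
      f.toMonoidHom f.injective).toEquiv, hA.card_normalizer,
      Nat.card_congr (A.equivMapOfInjective f.toMonoidHom f.injective).toEquiv]

end GoodTorus

omit [Finite G] in
/-- A nontrivial solvable group has a nontrivial normal abelian subgroup. -/
theorem exists_normal_comm_ne_bot [Group.IsSolvable G] [Nontrivial G] :
    ∃ N : Subgroup G, N.Normal ∧ N ≠ ⊥ ∧ ∀ x ∈ N, ∀ y ∈ N, x * y = y * x := by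
  classical
  have hex : ∃ n, derivedSeries G n = ⊥ := (Group.isSolvable_def G).1 inferInstance
  have h0 : Nat.find hex ≠ 0 := fun h => by
    have := Nat.find_spec hex
    rw [h, derivedSeries_zero] at this
    exact top_ne_bot this
  obtain ⟨n, hn⟩ := Nat.exists_eq_succ_of_ne_zero h0
  refine ⟨derivedSeries G n, derivedSeries_normal G n, Nat.find_min hex (by omega), ?_⟩
  have := Nat.find_spec hex
  rw [hn, Nat.succ_eq_add_one, derivedSeries_succ,
    Subgroup.commutator_eq_bot_iff_le_centralizer] at this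
  intro x hx y hy
  exact (Subgroup.mem_centralizer_iff.1 (this hy) x hx)

/-- Counting fixed cosets over a set closed in the relevant sense. -/
theorem sum_fixedBy_quotient (N : Subgroup G) (p : G → Prop) (n : ℕ)
    (hp : ∀ g y, p y → p (g * y * g⁻¹))
    (hn : ∀ y, p y → Nat.card (MulAction.fixedBy (G ⧸ N) y) = n) :
    n * Nat.card {y : G // p y} = N.index * Nat.card {y : G // y ∈ N ∧ p y} := by
  classical
  let e1 : (Σ y : {y : G // p y}, MulAction.fixedBy (G ⧸ N) (y : G)) ≃
      (Σ c : G ⧸ N, {y : G // y • c = c ∧ p y}) :=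
    { toFun := fun z => ⟨z.2.1, z.1.1, z.2.2, z.1.2⟩
      invFun := fun z => ⟨⟨z.2.1, z.2.2.2⟩, z.1, z.2.2.1⟩
      left_inv := fun z => rfl
      right_inv := fun z => rfl }
  have e2 : ∀ c : G ⧸ N, Nat.card {y : G // y • c = c ∧ p y} =
      Nat.card {y : G // y ∈ N ∧ p y} := by
    intro c
    obtain ⟨g, rfl⟩ := QuotientGroup.mk_surjective c
    refine Nat.card_congr ((MulAut.conj g⁻¹).toEquiv.subtypeEquiv fun y => ?_)
    have h1 : y • (g : G ⧸ N) = g ↔ g⁻¹ * y * g ∈ N := by
      show ((y * g : G) : G ⧸ N) = g ↔ _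
      rw [eq_comm, QuotientGroup.eq, mul_assoc]
    simp only [MulEquiv.toEquiv_eq_coe, EquivLike.coe_coe, MulAut.conj_apply, inv_inv]
    refine ⟨fun ⟨a, b⟩ => ⟨h1.1 a, by simpa using hp g⁻¹ y b⟩, fun ⟨a, b⟩ => ⟨h1.2 a, ?_⟩⟩
    simpa [mul_assoc] using hp g _ b
  have := Fintype.ofFinite {y : G // p y}
  have := Fintype.ofFinite (G ⧸ N)
  have h := Nat.card_congr e1
  rw [Nat.card_sigma, Nat.card_sigma, Finset.sum_congr rfl fun y _ => hn y.1 y.2,
    Finset.sum_congr rfl fun c _ => e2 c, Finset.sum_const, Finset.sum_const, Finset.card_univ,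
    Finset.card_univ, smul_eq_mul, smul_eq_mul, ← Nat.card_eq_fintype_card,
    ← Nat.card_eq_fintype_card] at h
  rw [Subgroup.index, mul_comm n]
  exact h

end CfsgLib.SuzukiLocal
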