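import Cfsg.Agent.SuzukiLocal.TorusSystem

/-!
# Solubilizers in `Cfsg.Sz`
-/

set_option autoImplicit false
set_option linter.unusedSectionVars false

namespace CfsgLib.SuzukiLocal

open CfsgLib.Suzuki MulAction

variable {F : Type*} [Field F] [Fintype F] {m : ℕ}

/-- The solubilizer of `x`. -/
def solSet {G : Type*} [Group G] (x : G) : Set G :=
  {y | Group.IsSolvable ↥(Subgroup.closure ({x, y} : Set G))}

theorem ncard_solSet_map {G H : Type*} [Group G] [Group H] (e : G ≃* H) (x : G) :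
    (solSet (e x)).ncard = (solSet x).ncard := by
  have key : ∀ y : G, e y ∈ solSet (e x) ↔ y ∈ solSet x := by
    intro y
    have h : (Subgroup.closure ({x, y} : Set G)).map e.toMonoidHom =
        Subgroup.closure ({e x, e y} : Set H) := by
      rw [MonoidHom.map_closure, Set.image_pair]; rfl
    let f := (Subgroup.equivMapOfInjective (Subgroup.closure ({x, y} : Set G)) e.toMonoidHom
      e.injective).trans (MulEquiv.subgroupCongr h)
    exact ⟨fun hs =>
        have : Group.IsSolvable ↥(Subgroup.closure ({e x, e y} : Set H)) := hs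
        Group.isSolvable_of_isSolvable_injective (f := f.toMonoidHom) f.injective,
      fun hs =>
        have : Group.IsSolvable ↥(Subgroup.closure ({x, y} : Set G)) := hs
        Group.isSolvable_of_isSolvable_injective (f := f.symm.toMonoidHom) f.symm.injective⟩
  have himg : solSet (e x) = e '' solSet x := by
    ext z
    refine ⟨fun hz => ⟨e.symm z, (key _).1 (by rwa [e.apply_symm_apply]), e.apply_symm_apply z⟩, ?_⟩
    rintro ⟨y, hy, rfl⟩
    exact (key y).2 hy
  rw [himg, Set.ncard_image_of_injective _ e.injective]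

namespace Tori

variable {hS : SzField F m} {A : Fin 3 → Subgroup (Cfsg.Sz F m)} (hA : Tori hS A)
include hA

theorem card_stab_coset (i : Fin 3)
    (c : Cfsg.Sz F m ⧸ Subgroup.normalizer (A i : Set (Cfsg.Sz F m))) :
    Nat.card ↥(stabilizer (Cfsg.Sz F m) c) = eT i * kT F m i := by
  obtain ⟨g, rfl⟩ := QuotientGroup.mk_surjective c
  rw [hA.stabilizer_mk, ((hA.good i).map_conj g).card_normalizer,
    ← Nat.card_congr ((A i).equivMapOfInjective (MulAut.conj g).toMonoidHom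
      (MulAut.conj g).injective).toEquiv, hA.card]

theorem pow_four_ne_one {i : Fin 3} {x g : Cfsg.Sz F m} (hx : x ≠ 1) (h : g⁻¹ * x * g ∈ A i) :
    x ^ 4 ≠ 1 := by
  intro h4
  have := (hA.good i).four_not_dvd_orderOf h (by
    have := conj_pow (i := 4) (a := g⁻¹) (b := x)
    rw [inv_inv, h4, mul_one, inv_mul_cancel] at this
    exact this)
  rw [mul_assoc, inv_mul_eq_one] at this
  exact hx (mul_eq_right.1 this.symm)

/-- A torus element fixes exactly one coset. -/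
theorem fixed_coset {i : Fin 3} {x g : Cfsg.Sz F m} (hx : x ≠ 1) (h : g⁻¹ * x * g ∈ A i)
    {j : Fin 3} {c : Cfsg.Sz F m ⧸ Subgroup.normalizer (A j : Set (Cfsg.Sz F m))} (hc : x • c = c) :
    i = j ∧ ∀ y : Cfsg.Sz F m, y • c = c →
      y • (g : Cfsg.Sz F m ⧸ Subgroup.normalizer (A i : Set (Cfsg.Sz F m))) = g := by
  obtain ⟨g', rfl⟩ := QuotientGroup.mk_surjective c
  rw [smul_mk_iff] at hc
  have h' := (hA.good j).mem_of_mem_normalizer hc (by
    have := conj_pow (i := 4) (a := g'⁻¹) (b := x)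
    rw [inv_inv] at this
    rw [this]
    intro e
    rw [mul_assoc, inv_mul_eq_one] at e
    exact hA.pow_four_ne_one hx h (mul_eq_right.1 e.symm))
  obtain rfl := hA.index_eq hx h h'
  refine ⟨rfl, fun y hy => ?_⟩
  rw [hA.mk_eq hx h h']
  exact hy

theorem sol_torus {i : Fin 3} {x g : Cfsg.Sz F m} (hx : x ≠ 1) (h : g⁻¹ * x * g ∈ A i) :
    solSet x = {y | ∃ p : Cfsg.suzukiOvoid F m, x • p = p ∧ y • p = p} ∪
      (stabilizer (Cfsg.Sz F m)
        (g : Cfsg.Sz F m ⧸ Subgroup.normalizer (A i : Set (Cfsg.Sz F m))) : Set (Cfsg.Sz F m)) := by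
  ext y
  show Group.IsSolvable ↥(Subgroup.closure ({x, y} : Set (Cfsg.Sz F m))) ↔ _
  rw [hA.isSolvable_closure_iff hx]
  constructor
  · rintro (hp | ⟨j, c, h1, h2⟩)
    · exact Or.inl hp
    · exact Or.inr ((hA.fixed_coset hx h h1).2 y h2)
  · rintro (hp | hy)
    · exact Or.inl hp
    · exact Or.inr ⟨i, g, (smul_mk_iff _ _ _).2 (Subgroup.le_normalizer h), hy⟩

theorem not_fixed_of_ne_zero {i : Fin 3} (hi : i ≠ 0) {x g : Cfsg.Sz F m} (hx : x ≠ 1)
    (h : g⁻¹ * x * g ∈ A i) (p : Cfsg.suzukiOvoid F m) : x • p ≠ p := by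
  intro hp
  obtain ⟨k, ⟨a, b, e⟩ | ⟨μ, -, e⟩⟩ := fixesPoint_cases hS hx ⟨p, hp⟩
  · have := pow_four_of_mem_uniSub hS (e ▸ uniEl_mem hS a b : k * x * k⁻¹ ∈ uniSub hS)
    rw [conj_pow, mul_inv_eq_one, mul_eq_left] at this
    exact hA.pow_four_ne_one hx h this
  · exact hi (hA.index_eq hx h (g' := k⁻¹) (j := 0)
      (by rw [inv_inv, e, hA.split]; exact ⟨μ, rfl⟩))

theorem card_sol_anis {i : Fin 3} (hi : i ≠ 0) {x g : Cfsg.Sz F m} (hx : x ≠ 1)
    (h : g⁻¹ * x * g ∈ A i) : (solSet x).ncard = eT i * kT F m i := by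
  have h0 : {y : Cfsg.Sz F m | ∃ p : Cfsg.suzukiOvoid F m, x • p = p ∧ y • p = p} = ∅ :=
    Set.eq_empty_of_forall_notMem fun y ⟨p, hp, _⟩ => hA.not_fixed_of_ne_zero hi hx h p hp
  rw [hA.sol_torus hx h, h0, Set.empty_union, ← Nat.card_coe_set_eq]
  exact hA.card_stab_coset i _

theorem card_sol_split {x g : Cfsg.Sz F m} (hx : x ≠ 1) (h : g⁻¹ * x * g ∈ A 0) :
    (solSet x).ncard = 2 * Fintype.card F ^ 2 * (Fintype.card F - 1) := by
  set y := g⁻¹ * x * g
  have hxy : x = MulAut.conj g y := by simp only [y, MulAut.conj_apply]; group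
  have hy1 : y ≠ 1 := fun e => hx (by rw [hxy, e, map_one])
  rw [hxy, ncard_solSet_map]
  obtain ⟨μ, hμ⟩ : ∃ μ, torSz hS μ = y := by rw [hA.split] at h; exact h
  have hμ1 : μ ≠ 1 := fun e => hy1 (by rw [← hμ, e, map_one])
  rw [hA.sol_torus (i := 0) (g := 1) hy1 (by simpa using h)]
  have hfix : {z : Cfsg.Sz F m | ∃ p : Cfsg.suzukiOvoid F m, y • p = p ∧ z • p = p} =
      (stabilizer (Cfsg.Sz F m) (ovoidInf (F := F) (m := m)) : Set (Cfsg.Sz F m)) ∪
        (stabilizer (Cfsg.Sz F m) (ovoidZero (F := F) (m := m)) : Set (Cfsg.Sz F m)) := by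
    ext z
    constructor
    · rintro ⟨p, hp, hz⟩
      rcases fixed_torSz hS hμ1 (hμ ▸ hp) with rfl | rfl
      · exact Or.inl hz
      · exact Or.inr hz
    · rintro (hz | hz)
      · exact ⟨_, hμ ▸ (torSz_smul_base hS μ).1, hz⟩
      · exact ⟨_, hμ ▸ (torSz_smul_base hS μ).2, hz⟩
  set c := ((1 : Cfsg.Sz F m) : Cfsg.Sz F m ⧸ Subgroup.normalizer (A 0 : Set (Cfsg.Sz F m)))
  set SI := (stabilizer (Cfsg.Sz F m) (ovoidInf (F := F) (m := m)) : Set (Cfsg.Sz F m))
  set SO := (stabilizer (Cfsg.Sz F m) (ovoidZero (F := F) (m := m)) : Set (Cfsg.Sz F m))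
  set SN := (stabilizer (Cfsg.Sz F m) c : Set (Cfsg.Sz F m))
  have hIO : SI ∩ SO = (A 0 : Set (Cfsg.Sz F m)) := by
    ext z
    rw [Set.mem_inter_iff]
    show (_ ∧ _) ↔ z ∈ A 0
    rw [hA.split, ← mem_pairStab_iff hS]
    exact ⟨fun h => ⟨congrArg Subtype.val h.1, congrArg Subtype.val h.2⟩,
      fun h => ⟨Subtype.ext h.1, Subtype.ext h.2⟩⟩
  have hmemN : ∀ z, z ∈ SN ↔ z ∈ Subgroup.normalizer (A 0 : Set (Cfsg.Sz F m)) := by
    intro z
    show z • c = c ↔ _
    rw [smul_mk_iff, inv_one, one_mul, mul_one]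
  have hI : (SI ∪ SO) ∩ SN = (A 0 : Set (Cfsg.Sz F m)) := by
    ext z
    constructor
    · rintro ⟨hz, hN⟩
      rw [hmemN] at hN
      show z ∈ A 0
      by_contra hzT
      have h4 := (hA.good 0).pow_four_eq_one hN hzT
      have hz1 : z ≠ 1 := fun e => hzT (e ▸ (A 0).one_mem)
      obtain ⟨p, -, huniq⟩ := existsUnique_fixed hS hz1 h4
      have hperm : ∀ r : Cfsg.suzukiOvoid F m, y • r = r → y • (z • r) = z • r := by
        intro r hr
        have hc' := (Subgroup.mem_normalizer_iff''.1 hN y).1 h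
        rw [hA.split] at hc'
        obtain ⟨ν, hν⟩ := hc'
        have hr2 : (z⁻¹ * y * z) • r = r := by
          rcases fixed_torSz hS hμ1 (hμ ▸ hr) with rfl | rfl
          · exact hν ▸ (torSz_smul_base hS ν).1
          · exact hν ▸ (torSz_smul_base hS ν).2
        have := conj_mem_stabilizer (k := z) hr2
        rwa [show z * (z⁻¹ * y * z) * z⁻¹ = y by group] at this
      rcases hz with hz | hz
      · rcases fixed_torSz hS hμ1 (hμ ▸ hperm _ (hμ ▸ (torSz_smul_base hS μ).2)) with e | e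
        · exact ovoidInf_ne_zero (smul_left_cancel z (hz.trans e.symm))
        · exact ovoidInf_ne_zero ((huniq _ hz).trans (huniq _ e).symm)
      · rcases fixed_torSz hS hμ1 (hμ ▸ hperm _ (hμ ▸ (torSz_smul_base hS μ).1)) with e | e
        · exact ovoidInf_ne_zero ((huniq _ e).trans (huniq _ hz).symm)
        · exact ovoidInf_ne_zero (smul_left_cancel z (e.trans hz.symm))
    · intro hz
      have h' : z ∈ SI ∩ SO := hIO ▸ hz
      exact ⟨Or.inl h'.1, (hmemN z).2 (Subgroup.le_normalizer hz)⟩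
  rw [hfix]
  have e1 := Set.ncard_union_add_ncard_inter SI SO
  have e2 := Set.ncard_union_add_ncard_inter (SI ∪ SO) SN
  rw [hIO] at e1
  rw [hI] at e2
  have c1 : SI.ncard = Fintype.card F ^ 2 * (Fintype.card F - 1) := by
    rw [← Nat.card_coe_set_eq]; exact card_stabilizer hS _
  have c2 : SO.ncard = Fintype.card F ^ 2 * (Fintype.card F - 1) := by
    rw [← Nat.card_coe_set_eq]; exact card_stabilizer hS _
  have c3 : SN.ncard = 2 * kT F m 0 := by
    rw [← Nat.card_coe_set_eq]; exact hA.card_stab_coset 0 c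
  have c4 : (A 0 : Set (Cfsg.Sz F m)).ncard = kT F m 0 := by rw [← Nat.card_coe_set_eq]; exact hA.card 0
  rw [mul_assoc]
  omega

/-- A 2-element of the normalizer of a torus moves every nontrivial torus element off its point. -/
theorem card_normalizer_inter_stabilizer {e : ℕ} {B : Subgroup (Cfsg.Sz F m)} (hB : GoodTorus B e)
    {x : Cfsg.Sz F m} (hx : x ≠ 1) (h4 : x ^ 4 = 1)
    (hN : x ∈ Subgroup.normalizer (B : Set (Cfsg.Sz F m))) {p : Cfsg.suzukiOvoid F m}
    (hp : x • p = p) :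
    Nat.card ↥(Subgroup.normalizer (B : Set (Cfsg.Sz F m)) ⊓ stabilizer (Cfsg.Sz F m) p) = e := by
  classical
  have : Fact (Nat.Prime 2) := ⟨Nat.prime_two⟩
  set N := Subgroup.normalizer (B : Set (Cfsg.Sz F m))
  set K := N ⊓ stabilizer (Cfsg.Sz F m) p
  have hdis : ∀ a ∈ B, a • p = p → a = 1 := by
    intro a ha hap
    by_contra h1
    have hc4 := comm_pow_four hS hp hap
    have := hB.four_not_dvd_orderOf (hB.comm_mem hN (Subgroup.le_normalizer ha)) hc4
    refine hB.not_mem_of_pow_four hx h4 (hB.mem_of_commute ha h1 ?_)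
    exact mul_inv_eq_iff_eq_mul.1 (mul_inv_eq_one.1 this)
  have hle : Nat.card K ≤ e := by
    have hinj : Function.Injective (fun u : K × B => (⟨u.1 * u.2,
        mul_mem u.1.2.1 (Subgroup.le_normalizer u.2.2)⟩ : N)) := by
      rintro ⟨⟨b, hb⟩, ⟨a, ha⟩⟩ ⟨⟨b', hb'⟩, ⟨a', ha'⟩⟩ h
      have h' : b * a = b' * a' := congrArg Subtype.val h
      have hmem : b'⁻¹ * b = a' * a⁻¹ := by
        rw [inv_mul_eq_iff_eq_mul, ← mul_assoc, ← h', mul_inv_cancel_right]
      have := hdis (a' * a⁻¹) (mul_mem ha' (inv_mem ha))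
        (hmem ▸ (K.mul_mem (K.inv_mem hb') hb).2)
      rw [mul_inv_eq_one] at this
      subst this
      simp only [Prod.mk.injEq, Subtype.mk.injEq, and_true]
      exact mul_right_cancel h'
    have := Nat.card_le_card_of_injective _ hinj
    rw [Nat.card_prod, hB.card_normalizer] at this
    exact Nat.le_of_mul_le_mul_right this Nat.card_pos
  refine le_antisymm hle ?_
  have hP0 : IsPGroup 2 (Subgroup.zpowers (⟨x, hN⟩ : N)) := by
    obtain ⟨j, -, hj⟩ := (Nat.dvd_prime_pow Nat.prime_two).1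
      (show orderOf (⟨x, hN⟩ : N) ∣ 2 ^ 2 from
        orderOf_dvd_of_pow_eq_one (Subtype.ext h4))
    exact IsPGroup.of_card (n := j) (by rw [Nat.card_zpowers, hj])
  obtain ⟨P, hP⟩ := hP0.exists_le_sylow
  have hxP : (⟨x, hN⟩ : N) ∈ (P : Subgroup N) := hP (Subgroup.mem_zpowers _)
  obtain ⟨r, hr⟩ :=
    P.isPGroup'.nonempty_fixed_point_of_prime_not_dvd_card (Cfsg.suzukiOvoid F m) (odd_card_ovoid hS)
  obtain ⟨p', -, huniq⟩ := existsUnique_fixed hS hx h4
  have hrp : r = p := (huniq r (hr ⟨_, hxP⟩)).trans (huniq p hp).symm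
  have hsub : ((P : Subgroup N).map N.subtype) ≤ K := by
    rintro _ ⟨u, hu, rfl⟩
    exact ⟨u.2, mem_stabilizer_iff.2 (hrp ▸ hr ⟨u, hu⟩)⟩
  have hdvd : e ∣ Nat.card (P : Subgroup N) := by
    have hmul := Subgroup.card_mul_index (P : Subgroup N)
    rw [hB.card_normalizer] at hmul
    have hodd : Nat.Coprime e (P : Subgroup N).index := by
      have := Nat.prime_two.coprime_iff_not_dvd.2 P.not_dvd_index
      rcases hB.index_cases with rfl | rfl
      · exact this
      · exact Nat.Coprime.pow_left 2 this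
    exact hodd.dvd_of_dvd_mul_right (hmul ▸ dvd_mul_right e _)
  have h1 := Nat.le_of_dvd Nat.card_pos hdvd
  have h2 := Subgroup.card_le_of_le hsub
  rw [← Nat.card_congr ((P : Subgroup N).equivMapOfInjective N.subtype
    N.subtype_injective).toEquiv] at h2
  omega

/-- The number of cosets fixed by an element of order 2 or 4. -/
theorem card_fixed_coset (i : Fin 3) {x : Cfsg.Sz F m} :
    (orderOf x = 2 → Nat.card (fixedBy (Cfsg.Sz F m ⧸ Subgroup.normalizer
        (A i : Set (Cfsg.Sz F m))) x) * eT i = Fintype.card F ^ 2) ∧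
    (orderOf x = 4 → Nat.card (fixedBy (Cfsg.Sz F m ⧸ Subgroup.normalizer
        (A i : Set (Cfsg.Sz F m))) x) * eT i = (eT i - 2) * Fintype.card F) := by
  set N := Subgroup.normalizer (A i : Set (Cfsg.Sz F m)) with hNdef
  have hconj : ∀ g u : Cfsg.Sz F m, Nat.card (fixedBy (Cfsg.Sz F m ⧸ N) (g * u * g⁻¹)) =
      Nat.card (fixedBy (Cfsg.Sz F m ⧸ N) u) := by
    intro g u
    refine Nat.card_congr ((MulAction.toPerm g⁻¹).subtypeEquiv fun c => ?_)
    show (g * u * g⁻¹) • c = c ↔ u • (g⁻¹ • c) = g⁻¹ • c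
    rw [mul_smul, mul_smul, smul_eq_iff_eq_inv_smul]
  have hord : ∀ g u : Cfsg.Sz F m, orderOf (g * u * g⁻¹) = orderOf u := fun g u =>
    MulEquiv.orderOf_eq (MulAut.conj g) u
  have hinv : ∀ u : Cfsg.Sz F m, Nat.card (fixedBy (Cfsg.Sz F m ⧸ N) u⁻¹) =
      Nat.card (fixedBy (Cfsg.Sz F m ⧸ N) u) := fun u => by rw [fixedBy_inv]
  have hidx : N.index * (eT i * kT F m i) =
      Fintype.card F ^ 2 * (Fintype.card F ^ 2 + 1) * (Fintype.card F - 1) := by
    rw [← card_sz hS, ← Subgroup.card_mul_index N, (hA.good i).card_normalizer, hA.card i, mul_comm]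
  have hq : 0 < (Fintype.card F ^ 2 + 1) * (Fintype.card F - 1) := by
    have := hS.eight_le
    exact Nat.mul_pos (by positivity) (by omega)
  have hk := ((kT_facts hS).1 i).1
  obtain ⟨n2, n4⟩ := card_order_two_four (m := m) hS
  have main : ∀ j, (∀ u v : Cfsg.Sz F m, orderOf u = j → orderOf v = j →
      Nat.card (fixedBy (Cfsg.Sz F m ⧸ N) u) = Nat.card (fixedBy (Cfsg.Sz F m ⧸ N) v)) →
      orderOf x = j → Nat.card (fixedBy (Cfsg.Sz F m ⧸ N) x) *
        Nat.card {u : Cfsg.Sz F m // orderOf u = j} =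
        N.index * Nat.card {u : Cfsg.Sz F m // u ∈ N ∧ orderOf u = j} := fun j hc hx =>
    sum_fixedBy_quotient N (fun u => orderOf u = j) _ (fun g u hu => (hord g u).trans hu)
      (fun u hu => hc u x hu hx)
  constructor
  · intro hx
    have h := main 2 (fun u v hu hv => by
      obtain ⟨g, rfl⟩ := (exists_conj_std hS).1 hu
      obtain ⟨g', rfl⟩ := (exists_conj_std hS).1 hv
      rw [hconj, hconj]) hx
    rw [n2, (hA.good i).ncard_involutions, hA.card i] at h
    refine Nat.eq_of_mul_eq_mul_right hq ?_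
    linear_combination (eT i) * h + hidx
  · intro hx
    have h := main 4 (fun u v hu hv => by
      obtain ⟨g, hg⟩ := (exists_conj_std hS).2 hu
      obtain ⟨g', hg'⟩ := (exists_conj_std hS).2 hv
      rcases hg with rfl | rfl <;> rcases hg' with rfl | rfl <;> simp only [hconj, hinv]) hx
    rw [n4, (hA.good i).ncard_order_four, hA.card i] at h
    refine Nat.eq_of_mul_eq_mul_right (Nat.mul_pos hq (show 0 < Fintype.card F from Fintype.card_pos)) ?_
    linear_combination (eT i) * h + (eT i - 2) * hidx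

/-- The solubilizer of a 2-element. -/
theorem card_sol_two {x : Cfsg.Sz F m} (hx : x ≠ 1) (h4 : x ^ 4 = 1) :
    (solSet x).ncard = Fintype.card F ^ 2 * (Fintype.card F - 1) +
      ∑ i : Fin 3, Nat.card (fixedBy (Cfsg.Sz F m ⧸ Subgroup.normalizer
        (A i : Set (Cfsg.Sz F m))) x) * (eT i * (kT F m i - 1)) := by
  classical
  obtain ⟨p, hp, huniq⟩ := existsUnique_fixed hS hx h4
  set B := (stabilizer (Cfsg.Sz F m) p : Set (Cfsg.Sz F m)) with hBdef
  have hmem : ∀ y, y ∈ solSet x ↔ y ∈ B ∨ ∃ (i : Fin 3)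
      (c : Cfsg.Sz F m ⧸ Subgroup.normalizer (A i : Set (Cfsg.Sz F m))),
        x • c = c ∧ y • c = c := by
    intro y
    show Group.IsSolvable ↥(Subgroup.closure ({x, y} : Set (Cfsg.Sz F m))) ↔ _
    rw [hA.isSolvable_closure_iff hx]
    refine or_congr ⟨fun ⟨r, hr, hy⟩ => show y • p = p by rw [← huniq r hr]; exact hy, fun hy => ⟨p, hp, hy⟩⟩ Iff.rfl
  let Z := Σ i : Fin 3, Σ c : fixedBy (Cfsg.Sz F m ⧸ Subgroup.normalizer
    (A i : Set (Cfsg.Sz F m))) x,
      {y : Cfsg.Sz F m // y • (c : Cfsg.Sz F m ⧸ Subgroup.normalizer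
        (A i : Set (Cfsg.Sz F m))) = c ∧ y ∉ B}
  let f : Z → ↥(solSet x \ B) := fun z =>
    ⟨z.2.2.1, (hmem _).2 (Or.inr ⟨z.1, z.2.1.1, z.2.1.2, z.2.2.2.1⟩), z.2.2.2.2⟩
  have hf : Function.Bijective f := by
    constructor
    · rintro ⟨i, ⟨c, hc⟩, y, hy, hyB⟩ ⟨j, ⟨d, hd⟩, y', hy', hyB'⟩ h
      obtain rfl : y = y' := congrArg Subtype.val h
      obtain ⟨g, rfl⟩ := QuotientGroup.mk_surjective c
      obtain ⟨g', rfl⟩ := QuotientGroup.mk_surjective d
      have hxg : g⁻¹ * x * g ∈ Subgroup.normalizer (A i : Set (Cfsg.Sz F m)) :=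
        (smul_mk_iff _ _ _).1 hc
      have hxg' : g'⁻¹ * x * g' ∈ Subgroup.normalizer (A j : Set (Cfsg.Sz F m)) :=
        (smul_mk_iff _ _ _).1 hd
      have hyg := (smul_mk_iff _ _ _).1 hy
      have hyg' := (smul_mk_iff _ _ _).1 hy'
      -- a common nontrivial torus element
      obtain ⟨a, ha1, ha, ha'⟩ : ∃ a : Cfsg.Sz F m, a ≠ 1 ∧ g⁻¹ * a * g ∈ A i ∧
          g'⁻¹ * a * g' ∈ A j := by
        have hy1 : y ≠ 1 := fun e => hyB (by rw [e]; exact one_mem (stabilizer _ p))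
        by_cases hy4 : y ^ 4 = 1
        · refine ⟨x * y * x⁻¹ * y⁻¹, ?_, ?_, ?_⟩
          · intro e
            refine hyB ?_
            rw [mul_inv_eq_one, mul_inv_eq_iff_eq_mul] at e
            have : x • (y • p) = y • p := by rw [← mul_smul, e, mul_smul, hp]
            exact huniq _ this
          · have := (hA.good i).comm_mem hxg hyg
            rwa [show g⁻¹ * x * g * (g⁻¹ * y * g) * (g⁻¹ * x * g)⁻¹ * (g⁻¹ * y * g)⁻¹ =
              g⁻¹ * (x * y * x⁻¹ * y⁻¹) * g by group] at this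
          · have := (hA.good j).comm_mem hxg' hyg'
            rwa [show g'⁻¹ * x * g' * (g'⁻¹ * y * g') * (g'⁻¹ * x * g')⁻¹ * (g'⁻¹ * y * g')⁻¹ =
              g'⁻¹ * (x * y * x⁻¹ * y⁻¹) * g' by group] at this
        · have hne : ∀ k : Cfsg.Sz F m, (k⁻¹ * y * k) ^ 4 ≠ 1 := fun k e => hy4 (by
            have := conj_pow (i := 4) (a := k⁻¹) (b := y)
            rw [inv_inv] at this
            rw [this, mul_assoc, inv_mul_eq_one] at e
            exact mul_eq_right.1 e.symm)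
          exact ⟨y, hy1, (hA.good i).mem_of_mem_normalizer hyg (hne g),
            (hA.good j).mem_of_mem_normalizer hyg' (hne g')⟩
      obtain rfl := hA.index_eq ha1 ha ha'
      have hcd := hA.mk_eq ha1 ha ha'
      refine Sigma.ext rfl (heq_of_eq (Sigma.ext (Subtype.ext hcd) ?_))
      exact (Subtype.heq_iff_coe_eq (fun z => by simp [hcd])).2 rfl
    · rintro ⟨y, hy, hyB⟩
      obtain hy' | ⟨i, c, hc, hyc⟩ := (hmem y).1 hy
      · exact absurd hy' hyB
      · exact ⟨⟨i, ⟨c, hc⟩, y, hyc, hyB⟩, rfl⟩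
  have hsub : B ⊆ solSet x := fun y hy => (hmem y).2 (Or.inl hy)
  rw [← Set.ncard_sdiff_add_ncard_of_subset hsub, add_comm]
  congr 1
  · rw [← Nat.card_coe_set_eq]; exact card_stabilizer hS p
  rw [← Nat.card_coe_set_eq, ← Nat.card_eq_of_bijective f hf, Nat.card_sigma]
  refine Finset.sum_congr rfl fun i _ => ?_
  have := Fintype.ofFinite (fixedBy (Cfsg.Sz F m ⧸ Subgroup.normalizer
    (A i : Set (Cfsg.Sz F m))) x)
  have hc : ∀ c : fixedBy (Cfsg.Sz F m ⧸ Subgroup.normalizer (A i : Set (Cfsg.Sz F m))) x,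
      Nat.card {y : Cfsg.Sz F m // y • (c : Cfsg.Sz F m ⧸ Subgroup.normalizer
        (A i : Set (Cfsg.Sz F m))) = c ∧ y ∉ B} = eT i * (kT F m i - 1) := by
    rintro ⟨c, hc⟩
    obtain ⟨g, rfl⟩ := QuotientGroup.mk_surjective c
    set S := stabilizer (Cfsg.Sz F m)
      (g : Cfsg.Sz F m ⧸ Subgroup.normalizer (A i : Set (Cfsg.Sz F m))) with hS'
    have hxS : x ∈ S := hc
    have e1 := hA.stabilizer_mk i g
    rw [← hS'] at e1
    have hint : Nat.card ↥(S ⊓ stabilizer (Cfsg.Sz F m) p) = eT i := by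
      rw [e1]
      exact hA.card_normalizer_inter_stabilizer ((hA.good i).map_conj g) hx h4 (e1 ▸ hxS) hp
    have hS2 : Nat.card S = eT i * kT F m i := hA.card_stab_coset i _
    have heq : {y : Cfsg.Sz F m | y • (g : Cfsg.Sz F m ⧸ Subgroup.normalizer
        (A i : Set (Cfsg.Sz F m))) = g ∧ y ∉ B} =
        (S : Set (Cfsg.Sz F m)) \ (S ⊓ stabilizer (Cfsg.Sz F m) p : Subgroup (Cfsg.Sz F m)) := by
      ext y
      exact ⟨fun ⟨a, b⟩ => ⟨a, fun h => b h.2⟩, fun ⟨a, b⟩ => ⟨a, fun h => b ⟨a, h⟩⟩⟩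
    rw [← Set.coe_ofPred, Nat.card_coe_set_eq, heq,
      Set.ncard_sdiff (fun y hy => hy.1) (Set.toFinite _), ← Nat.card_coe_set_eq,
      ← Nat.card_coe_set_eq, SetLike.coe_sort_coe, SetLike.coe_sort_coe, hint, hS2, Nat.mul_sub_one]
  rw [Nat.card_sigma, Finset.sum_congr rfl fun c _ => hc c, Finset.sum_const, Finset.card_univ,
    ← Nat.card_eq_fintype_card, smul_eq_mul]

end Tori

theorem sol_card (hS : SzField F m) (x : Cfsg.Sz F m) :
    (orderOf x = 2 → (solSet x).ncard = Fintype.card F ^ 2 * (4 * Fintype.card F - 3)) ∧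
    (orderOf x = 4 → (solSet x).ncard = Fintype.card F ^ 2 * (Fintype.card F + 3)) ∧
    (x ≠ 1 → orderOf x ∣ Fintype.card F - 1 →
      (solSet x).ncard = 2 * Fintype.card F ^ 2 * (Fintype.card F - 1)) ∧
    (x ≠ 1 → orderOf x ∣ Fintype.card F + 2 ^ (m + 1) + 1 →
      (solSet x).ncard = 4 * (Fintype.card F + 2 ^ (m + 1) + 1)) ∧
    (x ≠ 1 → orderOf x ∣ Fintype.card F - 2 ^ (m + 1) + 1 →
      (solSet x).ncard = 4 * (Fintype.card F - 2 ^ (m + 1) + 1)) := by
  obtain ⟨A, hA⟩ := exists_tori hS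
  obtain ⟨q, r, hq, hr, hqF, h8, hrr, hrq, h4, -⟩ := Cfsg.Agent.S2238.sizes hS
  have htwo : ∀ j, orderOf x = j → (j = 2 ∨ j = 4) → x ≠ 1 ∧ x ^ 4 = 1 := by
    intro j hj hj'
    refine ⟨fun e => ?_, orderOf_dvd_iff_pow_eq_one.1 ?_⟩
    · rw [e, orderOf_one] at hj; omega
    · rcases hj' with rfl | rfl <;> rw [hj] <;> norm_num
  have htor : ∀ i, x ≠ 1 → orderOf x ∣ kT F m i → ∃ g : Cfsg.Sz F m, g⁻¹ * x * g ∈ A i := by
    intro i hx hd
    have hodd := ((kT_facts hS).1 i).2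
    rcases hA.cover x hx with h | ⟨j, g, hg⟩
    · exfalso
      obtain ⟨l, -, hl⟩ := (Nat.dvd_prime_pow Nat.prime_two).1
        (show orderOf x ∣ 2 ^ 2 from orderOf_dvd_of_pow_eq_one h)
      rcases Nat.eq_zero_or_pos l with rfl | hl'
      · exact hx (orderOf_eq_one_iff.1 hl)
      · exact hodd ((dvd_pow_self 2 hl'.ne').trans (hl ▸ hd))
    · by_cases hij : i = j
      · exact ⟨g, hij ▸ hg⟩
      · exfalso
        have h1 : orderOf x ∣ kT F m j := by
          rw [← hA.card j]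
          have := Subgroup.orderOf_dvd_natCard _ hg
          rwa [show g⁻¹ * x * g = MulAut.conj g⁻¹ x by simp, MulEquiv.orderOf_eq] at this
        exact hx (orderOf_eq_one_iff.1 (Nat.dvd_one.1
          ((kT_facts hS).2 i j hij ▸ Nat.dvd_gcd hd h1)))
  refine ⟨fun hx => ?_, fun hx => ?_, fun hx hd => ?_, fun hx hd => ?_, fun hx hd => ?_⟩
  · obtain ⟨h1, h2⟩ := htwo 2 hx (Or.inl rfl)
    rw [hA.card_sol_two h1 h2, Fin.sum_univ_three, ← mul_assoc, ← mul_assoc, ← mul_assoc,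
      (hA.card_fixed_coset 0).1 hx, (hA.card_fixed_coset 1).1 hx, (hA.card_fixed_coset 2).1 hx]
    simp only [kT, Matrix.cons_val_zero, Matrix.cons_val_one, Matrix.cons_val]
    rw [hqF, ← hr, ← mul_add, ← mul_add, ← mul_add]
    congr 1
    omega
  · obtain ⟨h1, h2⟩ := htwo 4 hx (Or.inr rfl)
    rw [hA.card_sol_two h1 h2, Fin.sum_univ_three, ← mul_assoc, ← mul_assoc, ← mul_assoc,
      (hA.card_fixed_coset 0).2 hx, (hA.card_fixed_coset 1).2 hx, (hA.card_fixed_coset 2).2 hx]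
    simp only [eT, kT, Matrix.cons_val_zero, Matrix.cons_val_one, Matrix.cons_val]
    rw [hqF, ← hr, show (2 : ℕ) - 2 = 0 from rfl, show (4 : ℕ) - 2 = 2 from rfl, zero_mul, zero_mul,
      zero_add, show q + r + 1 - 1 = q + r by omega, show q - r + 1 - 1 = q - r by omega]
    zify [hrq.le, (by omega : 1 ≤ q)]
    ring
  · obtain ⟨g, hg⟩ := htor 0 hx hd
    exact hA.card_sol_split hx hg
  · obtain ⟨g, hg⟩ := htor 1 hx hd
    exact hA.card_sol_anis (by decide) hx hg
  · obtain ⟨g, hg⟩ := htor 2 hx hd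
    exact hA.card_sol_anis (by decide) hx hg

end CfsgLib.SuzukiLocal
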